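import Cfsg.Agent.Lib.Lie.Chev.TwistE6
import Cfsg.Agent.Lib.Lie.Chev.CycTori
import Cfsg.Agent.Lib.Lie.Chev.Centralizer

/-! The Frobenius of ²E₆ over a field of characteristic two, its conjugates by Weyl group elements,
and the elements of SL₂ and SL₂ × SL₂ that undo such a conjugation. -/

set_option autoImplicit false
set_option maxRecDepth 8000

namespace Cfsg.Agent.Lie.Chev.E6Five

open Cfsg.Lie Matrix

local notation "c" => certFullE6

variable {L : Type*} [Field L] [CharP L 2]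

/-- The graph symmetry composed with squaring. -/
noncomputable def Phi : GL chevE6.Idx L →* GL chevE6.Idx L :=
  (MulAut.conj (graphE6.unit L)).toMonoidHom.comp
    (Matrix.GeneralLinearGroup.map (n := chevE6.Idx) (frobenius L 2))

theorem Phi_apply (g : GL chevE6.Idx L) :
    Phi g = graphE6.unit L *
      Matrix.GeneralLinearGroup.map (n := chevE6.Idx) (frobenius L 2) g * (graphE6.unit L)⁻¹ := rfl

theorem cast_eq_one {x : ℤ} (h : x * x = 1) : (x : L) = 1 := by
  rcases Int.eq_one_or_neg_one_of_mul_eq_one h with rfl | rfl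
  · exact Int.cast_one
  · rw [Int.cast_neg, Int.cast_one, CharTwo.neg_eq]

theorem wsign_one (W : List ℕ) (s : ℕ) : ((c).wsign W s : L) = 1 := by
  have h := (c).wsign_sq (F := L) W s
  rcases mul_self_eq_one_iff.1 h with e | e
  · exact e
  · rw [e, CharTwo.neg_eq]

theorem rho_lt {r : ℕ} (hr : r < 72) : graphE6.ρ r < 72 := (graphE6.root_spec hr).1

theorem rho_rho : ∀ r < 72, graphE6.ρ (graphE6.ρ r) = r := by decide +kernel

theorem Phi_xg {r : ℕ} (hr : r < 72) (t : L) :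
    Phi ((c).xg r t) = (c).xg (graphE6.ρ r) (t ^ 2) := by
  rw [Phi_apply, (c).xg_map, graphE6.unit_mul_xg hr, mul_inv_cancel_right,
    cast_eq_one (graphE6.root_spec hr).2.2.2.2.1, one_mul, frobenius_def]

theorem Phi_mem_group {g : GL chevE6.Idx L} (hg : g ∈ chevE6.group L) : Phi g ∈ chevE6.group L := by
  have h : chevE6.group L ≤ (chevE6.group L).comap Phi := by
    conv_lhs => rw [(c).group_eq]
    refine (Subgroup.closure_le _).2 ?_
    rintro _ ⟨r, hr, t, rfl⟩
    rw [SetLike.mem_coe, Subgroup.mem_comap, Phi_xg hr]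
    exact (c).xg_mem_group (rho_lt hr) _
  exact h hg

theorem nw_xg {W : List ℕ} (hW : ∀ p ∈ W, p < 6) {s : ℕ} (hs : s < 72) (t : L) :
    (c).nw L W * (c).xg s t * ((c).nw L W)⁻¹ = (c).xg ((c).wl W s) t := by
  rw [(c).nw_mul_xg (L := W) hW hs, wsign_one, one_mul, mul_inv_cancel_right]

theorem nw_ng {W : List ℕ} (hW : ∀ p ∈ W, p < 6) {s : ℕ} (hs : s < 72) :
    (c).nw L W * (c).ng s 1 * ((c).nw L W)⁻¹ = (c).ng ((c).wl W s) 1 := by
  rw [(c).nw_mul_ng (L := W) hW hs, wsign_one, one_mul, mul_inv_cancel_right]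

/-- A torus element commuting with all root elements is trivial. -/
theorem torus_eq_one {a : GL chevE6.Idx L} (ha : a ∈ chevE6.diagonalSubgroup L)
    (h : ∀ s < 72, a * (c).xg s 1 * a⁻¹ = (c).xg s 1) : a = 1 := by
  rw [(c).diagonalSubgroup_eq] at ha
  obtain ⟨z, rfl⟩ := ha
  rw [Cert.torus_apply, ← map_one (dg chevE6 L)]
  refine dg_ext chevE6 L fun s hs => Units.ext ?_
  have := h s hs
  rw [(c).torus_conj_xg z hs] at this
  simpa using (c).xg_inj hs this

theorem np_sq {p : ℕ} (hp : p < 6) : (c).np L p * (c).np L p = 1 := by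
  refine torus_eq_one ((c).np_sq_mem (p := p) hp) fun s hs => ?_
  have h := nw_xg (L := L) (W := [p, p]) (by simpa using hp) hs 1
  simp only [Cert.nw_cons, Cert.nw_nil, mul_one] at h
  rw [h, Cert.wl_cons, Cert.wl_cons, Cert.wl_nil, (c).w_w (p := p) hp hs]

theorem nw_congr {W V : List ℕ} (hW : ∀ p ∈ W, p < 6) (hV : ∀ p ∈ V, p < 6)
    (h : ∀ q < 6, (c).wl W (chevE6.simple q) = (c).wl V (chevE6.simple q)) :
    (c).nw L W = (c).nw L V := by
  have hrev : ∀ {V : List ℕ}, (∀ p ∈ V, p < 6) → (c).nw L V.reverse * (c).nw L V = 1 := by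
    intro V hV
    induction V with
    | nil => simp
    | cons p V ih =>
      have hp : p < 6 := hV p (by simp)
      rw [List.reverse_cons, (c).nw_append, Cert.nw_cons, Cert.nw_nil, mul_one, Cert.nw_cons,
        mul_assoc, ← mul_assoc ((c).np L p), np_sq hp, one_mul, ih fun q hq => hV q (by simp [hq])]
  have hVr : ∀ p ∈ V.reverse, p < 6 := fun p hp => hV p (List.mem_reverse.1 hp)
  have hcat : ∀ p ∈ V.reverse ++ W, p < 6 := fun p hp =>
    (List.mem_append.1 hp).elim (hVr p) (hW p)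
  have hid : ∀ s < 72, (c).wl (V.reverse ++ W) s = s := by
    intro s hs
    rw [(c).wl_append, (c).wl_eq_of_same (L := W) (M := V) hW hV h hs]
    have := (c).wl_reverse (L := V.reverse) hVr hs
    rwa [List.reverse_reverse] at this
  have e : (c).nw L (V.reverse ++ W) = 1 := by
    refine torus_eq_one ?_ fun s hs => ?_
    · have := (c).mem_H_of_wl (F := L) (a := 1) (one_mem _) (L := V.reverse ++ W) hcat fun q hq => by
        rw [hid _ ((c).simple_lt hq)]; exact (c).pos_simple hq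
      rwa [one_mul] at this
    · rw [nw_xg hcat hs, hid s hs]
  rw [(c).nw_append] at e
  calc (c).nw L W = ((c).nw L V.reverse)⁻¹ * ((c).nw L V.reverse * (c).nw L W) := by group
    _ = (c).nw L V := by rw [e, mul_one, ← mul_eq_one_iff_inv_eq.1 (hrev hV)]

theorem Phi_np {p : ℕ} (hp : p < 6) : Phi ((c).np L p) = (c).np L (graphE6.τ p) := by
  obtain ⟨h1, -, -, -, h5, -⟩ := graphE6.node_spec (p := p) hp
  have hα : chevE6.simple p < 72 := (c).simple_lt hp
  have h4 := (graphE6.root_spec hα).2.2.2.1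
  rw [Cert.np, Cert.np, Cert.ng, Cert.ng, map_mul, map_mul, Phi_xg hα, Phi_xg ((c).neg_lt hα), h4,
    h5]
  simp [CharTwo.neg_eq]

theorem tau_lt {p : ℕ} (hp : p < 6) : graphE6.τ p < 6 := (graphE6.node_spec (p := p) hp).1

theorem Phi_nw {W : List ℕ} (hW : ∀ p ∈ W, p < 6) :
    Phi ((c).nw L W) = (c).nw L (W.map graphE6.τ) := by
  induction W with
  | nil => simp
  | cons p W ih =>
    rw [Cert.nw_cons, map_mul, Phi_np (hW p (by simp)), ih fun q hq => hW q (by simp [hq]),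
      List.map_cons, Cert.nw_cons]

/-- The Frobenius followed by conjugation with a Weyl group element. -/
noncomputable def Psi (W : List ℕ) : GL chevE6.Idx L →* GL chevE6.Idx L :=
  (MulAut.conj ((c).nw L W)).toMonoidHom.comp Phi

theorem Psi_apply (W : List ℕ) (g : GL chevE6.Idx L) :
    Psi W g = (c).nw L W * Phi g * ((c).nw L W)⁻¹ := rfl

theorem Psi_xg {W : List ℕ} (hW : ∀ p ∈ W, p < 6) {r : ℕ} (hr : r < 72) (t : L) :
    Psi W ((c).xg r t) = (c).xg ((c).wl W (graphE6.ρ r)) (t ^ 2) := by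
  rw [Psi_apply, Phi_xg hr, nw_xg hW (rho_lt hr)]

theorem Psi_mem_group {W : List ℕ} (hW : ∀ p ∈ W, p < 6) {g : GL chevE6.Idx L}
    (hg : g ∈ chevE6.group L) : Psi W g ∈ chevE6.group L :=
  mul_mem (mul_mem ((c).N_le_group ((c).nw_mem_N hW)) (Phi_mem_group hg))
    (inv_mem ((c).N_le_group ((c).nw_mem_N hW)))

/-- Fixed Weyl group elements. -/
theorem Psi_nw {W V : List ℕ} (hW : ∀ p ∈ W, p < 6) (hV : ∀ p ∈ V, p < 6)
    (h : ∀ q < 6, (c).wl (W ++ V.map graphE6.τ) (chevE6.simple q) =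
      (c).wl (V ++ W) (chevE6.simple q)) :
    Psi W ((c).nw L V) = (c).nw L V := by
  have hτ : ∀ p ∈ V.map graphE6.τ, p < 6 := by
    intro p hp
    obtain ⟨q, hq, rfl⟩ := List.mem_map.1 hp
    exact tau_lt (hV q hq)
  have e := nw_congr (L := L) (W := W ++ V.map graphE6.τ) (V := V ++ W)
    (fun p hp => (List.mem_append.1 hp).elim (hW p) (hτ p))
    (fun p hp => (List.mem_append.1 hp).elim (hV p) (hW p)) h
  rw [(c).nw_append, (c).nw_append] at e
  rw [Psi_apply, Phi_nw hV, e, mul_inv_cancel_right]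

/-- The image of a torus element. -/
theorem Psi_torus {W : List ℕ} (hW : ∀ p ∈ W, p < 6) (z : ℕ → Lˣ) :
    ∃ z', Psi W ((c).torus z) = (c).torus z' ∧
      ∀ s < 72, (c).tchar z' ((c).wl W (graphE6.ρ s)) = (c).tchar z s ^ 2 := by
  have hmem : Psi W ((c).torus z) ∈ chevE6.diagonalSubgroup L := by
    refine (c).N_conj_H ((c).nw_mem_N hW) ?_
    have e := ((E6.tw (frobenius L 2)).act_eq ((c).B_le_group ((c).H_le_B ((c).torus_mem z))))
    rw [(E6.tw (frobenius L 2)).act_torus] at e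
    have e2 : (E6.tw (frobenius L 2)).σ ⟨(c).torus z, (c).B_le_group ((c).H_le_B ((c).torus_mem z))⟩ =
        Phi ((c).torus z) := rfl
    rw [← e2, ← e]
    exact (c).torus_mem _
  rw [(c).diagonalSubgroup_eq] at hmem
  obtain ⟨z', hz'⟩ := hmem
  refine ⟨z', hz'.symm, fun s hs => Units.ext ?_⟩
  have h := congrArg (Psi W) ((c).torus_conj_xg z hs (1 : L))
  rw [map_mul, map_mul, map_inv, ← hz', Psi_xg hW hs, one_pow,
    (c).torus_conj_xg z' ((c).wl_lt hW (rho_lt hs)), Psi_xg hW hs, mul_one, mul_one] at h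
  rw [(c).xg_inj ((c).wl_lt hW (rho_lt hs)) h, Units.val_pow_eq_pow_val]

theorem Psi_torus_fixed {W : List ℕ} (hW : ∀ p ∈ W, p < 6) {z : ℕ → Lˣ}
    (h : ∀ s < 72, (c).tchar z ((c).wl W (graphE6.ρ s)) = (c).tchar z s ^ 2) :
    Psi W ((c).torus z) = (c).torus z := by
  obtain ⟨z', e, hz'⟩ := Psi_torus hW z
  rw [e, Cert.torus_apply, Cert.torus_apply]
  refine dg_ext chevE6 L fun u hu => ?_
  have hr : ∀ p ∈ W.reverse, p < 6 := fun p hp => hW p (List.mem_reverse.1 hp)
  have hv : (c).wl W.reverse u < 72 := (c).wl_lt hr hu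
  have hs := rho_lt hv
  have e' : (c).wl W (graphE6.ρ (graphE6.ρ ((c).wl W.reverse u))) = u := by
    rw [rho_rho _ hv]; exact (c).wl_reverse hW hu
  rw [← e', hz' _ hs, h _ hs]

omit [CharP L 2] in
/-- A root element pair undoing one reflection on a pair of orthogonal roots. -/
theorem twist_pair [CharP L 2] (Ψ : GL chevE6.Idx L →* GL chevE6.Idx L) {r r' : ℕ} (hr : r < 72)
    (h1 : ∀ t, Ψ ((c).xg r t) = (c).xg r' (t ^ 2))
    (h2 : ∀ t, Ψ ((c).xg (chevE6.neg r) t) = (c).xg (chevE6.neg r') (t ^ 2))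
    (h3 : ∀ t, Ψ ((c).xg r' t) = (c).xg r (t ^ 2))
    (h4 : ∀ t, Ψ ((c).xg (chevE6.neg r') t) = (c).xg (chevE6.neg r) (t ^ 2))
    (hc : ∀ a ∈ [r, chevE6.neg r], ∀ b ∈ [r', chevE6.neg r'], ∀ t u : L,
      Commute ((c).xg a t) ((c).xg b u))
    {η : L} (hη : η ^ 4 = η + 1) :
    Ψ ((c).xg (chevE6.neg r) η * (c).xg r 1 * ((c).xg (chevE6.neg r') (η ^ 2) * (c).xg r' 1)) =
      (c).xg (chevE6.neg r) η * (c).xg r 1 * ((c).xg (chevE6.neg r') (η ^ 2) * (c).xg r' 1) *
        (c).ng r 1 := by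
  have hn : (c).ng r (1 : L) = (c).xg r 1 * (c).xg (chevE6.neg r) 1 * (c).xg r 1 := by
    rw [Cert.ng, inv_one, CharTwo.neg_eq]
  have hrr : (c).xg r (1 : L) * (c).xg r 1 = 1 := by
    rw [← (c).xg_add, CharTwo.add_self_eq_zero, (c).xg_zero]
  set B := (c).xg (chevE6.neg r') (η ^ 2) * (c).xg r' 1
  have hB : Commute ((c).ng r (1 : L)) B := by
    rw [hn]
    have key : ∀ a ∈ [r, chevE6.neg r], ∀ t, Commute ((c).xg a t) B := fun a ha t =>
      (hc a ha _ (by simp) t _).mul_right (hc a ha _ (by simp) t _)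
    exact ((key r (by simp) _).mul_left (key _ (by simp) _)).mul_left (key r (by simp) _)
  have hA : (c).xg (chevE6.neg r) ((η ^ 2) ^ 2) * (c).xg r (1 : L) =
      (c).xg (chevE6.neg r) η * (c).xg r 1 * (c).ng r 1 := by
    rw [← pow_mul, hη, (c).xg_add, hn]
    simp only [← mul_assoc]
    rw [mul_assoc ((c).xg (chevE6.neg r) η) ((c).xg r 1) ((c).xg r 1), hrr, mul_one]
  have hAB : ∀ t, Commute ((c).xg (chevE6.neg r) t * (c).xg r (1 : L)) B := fun t =>
    ((hc _ (by simp) _ (by simp) _ _).mul_right (hc _ (by simp) _ (by simp) _ _)).mul_left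
      ((hc _ (by simp) _ (by simp) _ _).mul_right (hc _ (by simp) _ (by simp) _ _))
  rw [map_mul, map_mul, map_mul, h1, h2, h3, h4, one_pow]
  show B * _ = _
  rw [← (hAB _).eq, hA, mul_assoc _ ((c).ng r 1), hB.eq, ← mul_assoc]

omit [CharP L 2] in
/-- A root element pair undoing one reflection on a fixed root. -/
theorem twist_single [CharP L 2] (Ψ : GL chevE6.Idx L →* GL chevE6.Idx L) {r : ℕ}
    (h1 : ∀ t, Ψ ((c).xg r t) = (c).xg r (t ^ 2))
    (h2 : ∀ t, Ψ ((c).xg (chevE6.neg r) t) = (c).xg (chevE6.neg r) (t ^ 2))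
    {ω : L} (hω : ω ^ 2 = ω + 1) :
    Ψ ((c).xg (chevE6.neg r) ω * (c).xg r 1) =
      (c).xg (chevE6.neg r) ω * (c).xg r 1 * (c).ng r 1 := by
  have hrr : (c).xg r (1 : L) * (c).xg r 1 = 1 := by
    rw [← (c).xg_add, CharTwo.add_self_eq_zero, (c).xg_zero]
  rw [map_mul, h1, h2, one_pow, hω, (c).xg_add, Cert.ng, inv_one, CharTwo.neg_eq]
  simp only [← mul_assoc]
  rw [mul_assoc ((c).xg (chevE6.neg r) ω) ((c).xg r 1) ((c).xg r 1), hrr, mul_one]

end Cfsg.Agent.Lie.Chev.E6Five
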