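import Cfsg.Agent.Lib.Lie.Chev.E6Five.Data
import Cfsg.Agent.Lib.Lie.Chev.ToralBase
import Cfsg.Agent.Lib.Lie.Chev.InvolutionCentralizer

/-! The fixed points of the twisted Frobenius in the centraliser of the torus element: a factor of
order five and the points over two elements of the A₃. -/

set_option autoImplicit false
set_option maxRecDepth 8000

namespace Cfsg.Agent.Lie.Chev.E6Five

open Cfsg.Lie Matrix

local notation "c" => certFullE6

variable {L : Type*} [Field L] [CharP L 2] (ζ : Lˣ)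

/-- The twisted fixed points in the centraliser. -/
noncomputable def C1 : Subgroup (GL chevE6.Idx L) :=
  chevE6.group L ⊓ Subgroup.centralizer {zv ζ z0v} ⊓ (Psi (L := L) [0]).eqLocus (MonoidHom.id _)

variable (L) in
/-- The points over two elements of the A₃. -/
def Lsub : Subgroup (GL chevE6.Idx L) :=
  Subgroup.closure {g | ∃ s ∈ rootsS, g = (c).xg s 1}

theorem mem_C1 {g : GL chevE6.Idx L} : g ∈ C1 ζ ↔
    g ∈ chevE6.group L ∧ g * zv ζ z0v = zv ζ z0v * g ∧ Psi [0] g = g := by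
  rw [C1, Subgroup.mem_inf, Subgroup.mem_inf, Subgroup.mem_centralizer_singleton_iff, and_assoc]
  rfl

omit [CharP L 2] in
theorem xg_mem_Lsub {s : ℕ} (hs : s ∈ rootsS) {t : L} (ht : t = 0 ∨ t = 1) :
    (c).xg s t ∈ Lsub L := by
  rcases ht with rfl | rfl
  · rw [(c).xg_zero]; exact one_mem _
  · exact Subgroup.subset_closure ⟨s, hs, rfl⟩

theorem ng_mem_Lsub {s : ℕ} (hs : s ∈ rootsS) (hn : chevE6.neg s ∈ rootsS) :
    (c).ng s (1 : L) ∈ Lsub L := by
  rw [Cert.ng, inv_one, CharTwo.neg_eq]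
  exact mul_mem (mul_mem (xg_mem_Lsub hs (Or.inr rfl)) (xg_mem_Lsub hn (Or.inr rfl)))
    (xg_mem_Lsub hs (Or.inr rfl))

theorem nw_refWord_mem : ∀ i < 3, (c).nw L (refWord i) ∈ Lsub L := by
  obtain ⟨e69, h5, h1, h3, n69, n46, n39⟩ := word69_eq
  have hneg : ∀ s < 72, chevE6.neg s = (c).T.neg s := fun s hs => (c).neg_eq hs
  intro i hi
  rcases (show i = 0 ∨ i = 1 ∨ i = 2 by omega) with rfl | rfl | rfl
  · show (c).nw L [1] ∈ Lsub L
    rw [Cert.nw_cons, Cert.nw_nil, mul_one, Cert.np, (c).simple_eq (show (1 : ℕ) < 6 by omega), h1]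
    exact ng_mem_Lsub (by decide) (by rw [hneg 46 (by omega), n46]; decide)
  · show (c).nw L [3] ∈ Lsub L
    rw [Cert.nw_cons, Cert.nw_nil, mul_one, Cert.np, (c).simple_eq (show (3 : ℕ) < 6 by omega), h3]
    exact ng_mem_Lsub (by decide) (by rw [hneg 39 (by omega), n39]; decide)
  · show (c).nw L word69 ∈ Lsub L
    obtain ⟨M, hM⟩ : ∃ M : List ℕ, M = [2, 0, 4, 3, 1, 2, 3, 4] := ⟨_, rfl⟩
    rw [← hM] at e69 h5
    have hMlt : ∀ p ∈ M, p < 6 := by rw [hM]; decide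
    have hinv : (c).nw L M.reverse = ((c).nw L M)⁻¹ := by
      refine eq_inv_of_mul_eq_one_right ?_
      rw [← (c).nw_append, nw_congr (V := [])
        (fun p hp => (List.mem_append.1 hp).elim (hMlt p) (fun h => hMlt p (List.mem_reverse.1 h)))
        (by simp) fun q hq => ?_, Cert.nw_nil]
      rw [(c).wl_append, (c).wl_reverse hMlt ((c).simple_lt hq), Cert.wl_nil]
    rw [e69, (c).nw_append, (c).nw_append, hinv, Cert.nw_cons, Cert.nw_nil, mul_one, Cert.np,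
      nw_ng hMlt ((c).simple_lt (show (5 : ℕ) < 6 by omega)), ← (c).wlT_eq,
      (c).simple_eq (show (5 : ℕ) < 6 by omega), h5]
    exact ng_mem_Lsub (by decide) (by rw [hneg 69 (by omega), n69]; decide)

theorem nw_wordE_mem (i : Fin 24) : (c).nw L (wordE i) ∈ Lsub L := by
  have hlt : ∀ w ∈ genWords, ∀ j ∈ w, j < 3 := by decide
  have hmem : genWords.getD i.val [] ∈ genWords := by
    rw [List.getD_eq_getElem _ _ (show i.val < genWords.length from i.isLt)]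
    exact List.getElem_mem _
  have key : ∀ w : List ℕ, (∀ j ∈ w, j < 3) → (c).nw L (w.map refWord).flatten ∈ Lsub L := by
    intro w
    induction w with
    | nil => intro _; exact one_mem _
    | cons j w ih =>
      intro h
      rw [List.map_cons, List.flatten_cons, (c).nw_append]
      exact mul_mem (nw_refWord_mem j (h j (by simp))) (ih fun k hk => h k (by simp [hk]))
  exact key _ (hlt _ hmem)

theorem Psi_wordE (i : Fin 24) : Psi [0] ((c).nw L (wordE i)) = (c).nw L (wordE i) :=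
  Psi_nw (by simp) (wordE_lt i) fun q hq => by
    rw [← (c).wlT_eq, ← (c).wlT_eq, (c).simple_eq hq]
    exact sigma_wordE i q hq

theorem Psi_xg_S {s : ℕ} (hs : s ∈ rootsS) (t : L) :
    Psi [0] ((c).xg s t) = (c).xg s (t ^ 2) := by
  rw [Psi_xg (by simp) (rootsS_lt s hs), ← (c).wlT_eq, sigma_rootsS s hs]

theorem Psi_KS {S : Set ℕ} (hS : ∀ r ∈ S, r ∈ rootsS) {g : GL chevE6.Idx L}
    (hg : g ∈ (c).KS L S (c).T.h) : Psi [0] g ∈ (c).KS L S (c).T.h := by
  have h : (c).KS L S (c).T.h ≤ ((c).KS L S (c).T.h).comap (Psi [0]) := by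
    refine (Subgroup.closure_le _).2 ?_
    rintro _ ⟨r, t, hr, hm, rfl⟩
    rw [SetLike.mem_coe, Subgroup.mem_comap, Psi_xg_S (hS r hr)]
    exact (c).xg_mem_KS hr hm _
  exact h hg

/-- A fixed element of a unipotent subgroup is a product of root elements over two elements. -/
theorem fixed_oprod {S : Set ℕ} (hc : (c).IsClosed S) (hS : ∀ r ∈ S, r ∈ rootsS)
    {g : GL chevE6.Idx L} (hg : g ∈ (c).KS L S (c).T.h) (hfix : Psi [0] g = g) :
    ∃ t : ℕ → L, (∀ r, r ∉ S → t r = 0) ∧ (∀ r, 36 ≤ r → r < 72 → t r = 0 ∨ t r = 1) ∧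
      g = (c).oprod (c).T.h t := by
  obtain ⟨t, ht, rfl⟩ := (c).exists_oprod_KS hc _ _ rfl le_rfl g hg
  refine ⟨t, ht, fun r hr hr' => ?_, rfl⟩
  have e : Psi [0] ((c).oprod (c).T.h t) = (c).oprod (c).T.h (fun r => t r ^ 2) := by
    rw [Cert.oprod, Cert.oprod, map_list_prod, List.map_map]
    refine congrArg List.prod (List.map_congr_left fun r _ => ?_)
    rw [Function.comp_apply]
    by_cases hrS : r ∈ S
    · exact Psi_xg_S (hS r hrS) _
    · rw [ht r hrS, zero_pow two_ne_zero, (c).xg_zero, map_one]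
  rw [e] at hfix
  have h := (c).oprod_inj _ _ rfl le_rfl _ _ hfix r (show 36 ≤ r from hr) hr'
  rcases eq_or_ne (t r) 0 with h0 | h0
  · exact Or.inl h0
  · exact Or.inr (mul_left_cancel₀ h0 (by rw [mul_one, ← sq]; exact h))

theorem oprod_mem_Lsub {t : ℕ → L} (ht : ∀ r, r ∉ rootsS → t r = 0)
    (h01 : ∀ r, 36 ≤ r → r < 72 → t r = 0 ∨ t r = 1) : (c).oprod (c).T.h t ∈ Lsub L := by
  rw [Cert.oprod]
  refine Subgroup.list_prod_mem _ fun x hx => ?_
  obtain ⟨r, hr, rfl⟩ := List.mem_map.1 hx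
  rw [List.mem_range'_1] at hr
  have hn : (c).T.h = 36 := rfl
  have hd : chevE6.nroots = 72 := rfl
  by_cases hrS : r ∈ rootsS
  · exact xg_mem_Lsub hrS (h01 r (by omega) (by omega))
  · rw [ht r hrS, (c).xg_zero]; exact one_mem _

variable {ζ}

omit [CharP L 2] in
theorem tchar_z0_eq_one (hζ : orderOf ζ = 5) {r : ℕ} (hr : r < 72)
    (h : (c).tchar (fun i => ζ ^ z0v.getD i 0) r = 1) : r ∈ rootsS := by
  rw [tchar_zv (hζ ▸ pow_orderOf_eq_one ζ)] at h
  refine (ex_z0v_iff r hr).1 (zpow_inj_five hζ ?_ (by norm_num) (by rw [h, pow_zero]))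
  have := Int.emod_lt_of_pos (a := (((List.range 6).map fun i =>
    ((z0v.getD i 0 : ℕ) : ℤ) * certFullE6.T.cartan i r).sum)) (show (0 : ℤ) < 5 by norm_num)
  rw [ex]
  omega

omit [CharP L 2] in
/-- The stabiliser in the Weyl group. -/
theorem exists_same (hζ : orderOf ζ = 5) {W : List ℕ} (hW : ∀ p ∈ W, p < 6)
    (hk : (c).KeepsChar (fun i => ζ ^ z0v.getD i 0) W) :
    ∃ i : Fin 24, (c).Same W (wordE i) := by
  have h5 := hζ ▸ pow_orderOf_eq_one ζ
  have hlt5 : ∀ v s, ex v s < 5 := fun v s => by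
    have := Int.emod_lt_of_pos (a := (((List.range 6).map fun i =>
      ((v.getD i 0 : ℕ) : ℤ) * certFullE6.T.cartan i s).sum)) (show (0 : ℤ) < 5 by norm_num)
    rw [ex]
    omega
  have hs : ∀ q < 6, chevE6.simple q = (c).T.simple q := fun q hq => (c).simple_eq hq
  have hlt : ∀ q < 6, chevE6.simple q < 72 := fun q hq => (c).simple_lt hq
  obtain ⟨i, hi | hi⟩ := exists_wordE (f := fun q => (c).wl W (chevE6.simple q))
    (fun q hq => (c).wl_lt hW (hlt q hq))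
    (fun q hq => by
      have := hk _ (hlt q hq)
      rw [tchar_zv h5, tchar_zv h5] at this
      rw [← hs q hq]
      exact zpow_inj_five hζ (hlt5 _ _) (hlt5 _ _) this)
    (fun j hj k hk => by rw [(c).pairing_wl hW (hlt j hj) (hlt k hk), hs j hj, hs k hk])
  · exact ⟨i, fun q hq => by rw [← hi q hq, ← (c).wlT_eq (wordE i), hs q hq]⟩
  · exfalso
    have hV : ∀ p ∈ wordE i ++ wordU, p < 6 := fun p hp =>
      (List.mem_append.1 hp).elim (wordE_lt i p) ((by decide : ∀ p ∈ wordU, p < 6) p)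
    obtain ⟨V, hVdef⟩ : ∃ V, V = wordE i ++ wordU := ⟨_, rfl⟩
    rw [← hVdef] at hV hi
    have hVr : ∀ p ∈ V.reverse, p < 6 := fun p hp => hV p (List.mem_reverse.1 hp)
    have hM : ∀ p ∈ V.reverse ++ W, p < 6 := fun p hp =>
      (List.mem_append.1 hp).elim (hVr p) (hW p)
    have himg : ∀ q < 6, (c).wl (V.reverse ++ W) (chevE6.simple q) =
        chevE6.simple (graphE6.τ q) := by
      intro q hq
      rw [(c).wl_append, ← hi q hq, (c).wlT_eq, ← hs _ (tau_lt hq)]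
      have := (c).wl_reverse (L := V.reverse) hVr (hlt _ (tau_lt hq))
      rwa [List.reverse_reverse] at this
    have hH : (1 : GL chevE6.Idx L) * (c).nw L (V.reverse ++ W) ∈ chevE6.diagonalSubgroup L :=
      (c).mem_H_of_wl (one_mem _) hM fun q hq => by
        rw [himg q hq]; exact (c).pos_simple (tau_lt hq)
    have h0 := (c).wl_eq_of_eq (F := L) (one_mem _) hH hM (M := []) (by simp)
      (by rw [Cert.nw_nil, mul_one, one_mul]) (hlt 0 (by omega))
    rw [himg 0 (by omega), Cert.wl_nil] at h0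
    revert h0
    decide

/-- A torus element fixed by the twisted Frobenius is a power of the element. -/
theorem torus_fixed [Fintype L] (hL : Fintype.card L = 16) (hζ : orderOf ζ = 5)
    {d : GL chevE6.Idx L} (hd : d ∈ chevE6.diagonalSubgroup L) (hfix : Psi [0] d = d) :
    ∃ k : ℕ, d = zv ζ z0v ^ k := by
  rw [(c).diagonalSubgroup_eq] at hd
  obtain ⟨z, rfl⟩ := hd
  obtain ⟨z', e, hz'⟩ := Psi_torus (W := [0]) (by simp) z
  rw [e, Cert.torus_apply, Cert.torus_apply, dg_eq_iff] at hfix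
  have hrel : ∀ s < 72, (c).tchar z ((c).T.wlT [0] (graphE6.ρ s)) = (c).tchar z s ^ 2 := fun s hs => by
    rw [← hz' s hs, (c).wlT_eq, hfix _ ((c).wl_lt (show ∀ p ∈ [0], p < 6 by simp) (rho_lt hs))]
  obtain ⟨a46, a39, a42, a56, a36, a37, v57, v15, ez⟩ := sigma_simple
  obtain ⟨s0, s1, s2, s3, s4, s5, -⟩ := E6.simple_values
  have h46 := hrel 46 (by omega); rw [a46] at h46
  have h39 := hrel 39 (by omega); rw [a39] at h39
  have h42 := hrel 42 (by omega); rw [a42] at h42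
  have h56 := hrel 56 (by omega); rw [a56] at h56
  have h36 := hrel 36 (by omega); rw [a36] at h36
  have h37 := hrel 37 (by omega); rw [a37] at h37
  have e1 : (c).tchar z 46 = 1 := left_eq_mul.1 (h46.trans (sq _))
  have e3 : (c).tchar z 39 = 1 := left_eq_mul.1 (h39.trans (sq _))
  simp only [List.range_succ, List.range_zero, List.nil_append, List.cons_append,
    List.map_cons, List.map_nil, List.cons.injEq, and_true] at v57 v15
  obtain ⟨b0, b1, b2, b3, b4, b5⟩ := v57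
  obtain ⟨d0, d1, d2, d3, d4, d5⟩ := v15
  have e57 : (c).tchar z 57 = (c).tchar z 56 * (c).tchar z 42 := by
    rw [(c).tchar_eq_prod z (show 57 < chevE6.nroots by decide), show chevE6.rank = 6 from rfl]
    simp only [Finset.prod_range_succ, Finset.prod_range_zero, b0, b1, b2, b3, b4, b5, s0, s2,
      one_mul, zpow_one, _root_.zpow_zero, mul_one]
  have e15 : (c).tchar z 15 = ((c).tchar z 56)⁻¹ := by
    rw [(c).tchar_eq_prod z (show 15 < chevE6.nroots by decide), show chevE6.rank = 6 from rfl]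
    simp only [Finset.prod_range_succ, Finset.prod_range_zero, d0, d1, d2, d3, d4, d5, s0,
      one_mul, _root_.zpow_neg, zpow_one, _root_.zpow_zero, mul_one]
  rw [e57] at h37
  obtain ⟨t, ht⟩ : ∃ t, t = (c).tchar z 42 := ⟨_, rfl⟩
  rw [← ht] at h42 h37
  have u56 : (c).tchar z 56 = t ^ 3 := by
    rw [h42, ← pow_mul] at h37
    exact mul_right_cancel (h37.trans (pow_succ t 3))
  have u36 : (c).tchar z 36 = t ^ 6 := by rw [h56, u56, ← pow_mul]
  have h15 : ∀ u : Lˣ, u ^ 15 = 1 := fun u => Units.ext (by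
    rw [Units.val_pow_eq_pow_val, show 15 = Fintype.card L - 1 by rw [hL],
      FiniteField.pow_card_sub_one_eq_one _ u.ne_zero, Units.val_one])
  have ht5 : t ^ 5 = 1 := by
    obtain ⟨t56, t46, t42, t39, t37, t36⟩ := E6.tchar_simple z
    have hcube : (c).tchar z 56 * (c).tchar z 42 ^ 2 * (c).tchar z 37 * (c).tchar z 36 ^ 2 =
        (z 2 * (z 3)⁻¹ * z 5) ^ 3 := by
      rw [t56, t42, t37, t36]
      simp only [pow_succ, pow_zero, one_mul, _root_.mul_inv_rev]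
      refine Units.ext ?_
      simp only [Units.val_mul, Units.val_inv_eq_inv_val]
      field_simp
    rw [u56, ← ht, h42, u36, ← pow_mul, ← pow_add, ← pow_add, ← pow_add] at hcube
    have h := congrArg (· ^ 5) hcube
    simp only [← pow_mul] at h
    rw [h15, show (3 + 2 + 2 + 6 * 2) * 5 = 15 * 6 + 5 from rfl, pow_add, pow_mul, h15,
      one_pow, one_mul] at h
    exact h
  obtain ⟨j, hj, hjt⟩ : ∃ j < 5, ζ ^ j = t := by
    have hp : IsPrimitiveRoot (ζ : L) 5 := by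
      have h0 := IsPrimitiveRoot.orderOf ζ
      rw [hζ] at h0
      exact IsPrimitiveRoot.coe_units_iff.2 h0
    haveI : NeZero (5 : ℕ) := ⟨by norm_num⟩
    obtain ⟨j, hj, e⟩ := hp.eq_pow_of_pow_eq_one (ξ := (t : L))
      (by rw [← Units.val_pow_eq_pow_val, ht5, Units.val_one])
    exact ⟨j, hj, Units.ext (by rw [Units.val_pow_eq_pow_val, e])⟩
  refine ⟨4 * j, ?_⟩
  have h5 : ζ ^ 5 = 1 := hζ ▸ pow_orderOf_eq_one ζ
  rw [zv, ← map_pow]
  refine (c).torus_eq_of_chi ?_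
  funext q
  obtain ⟨w, hw⟩ : ∃ w : ℕ → Lˣ, w = fun i => ζ ^ z0v.getD i 0 := ⟨_, rfl⟩
  rw [← hw]
  show (c).tchar z (chevE6.simple q) = (c).tchar (w ^ (4 * j)) (chevE6.simple q)
  rw [(c).tchar_pow, hw, tchar_zv h5, ← pow_mul]
  simp only [List.map_cons, List.map_nil, List.cons.injEq, and_true] at ez
  obtain ⟨f56, f46, f42, f39, f37, f36⟩ := ez
  have hmod : ∀ m : ℕ, t ^ m = ζ ^ (j * m % 5) := fun m => by
    rw [← hjt, ← pow_mul, pow_eq_pow_mod _ h5]
  rcases (show (q : ℕ) = 0 ∨ (q : ℕ) = 1 ∨ (q : ℕ) = 2 ∨ (q : ℕ) = 3 ∨ (q : ℕ) = 4 ∨ (q : ℕ) = 5 by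
    have := q.isLt; change (q : ℕ) < 6 at this; omega) with e | e | e | e | e | e <;>
    simp only [e, s0, s1, s2, s3, s4, s5]
  · rw [f56, u56, hmod, pow_eq_pow_mod (2 * (4 * j)) h5]; congr 1; omega
  · rw [f46, e1, zero_mul, pow_zero]
  · rw [f42, ← ht, ← pow_one t, hmod, pow_eq_pow_mod (4 * (4 * j)) h5]; congr 1; omega
  · rw [f39, e3, zero_mul, pow_zero]
  · rw [f37, h42, hmod, pow_eq_pow_mod (3 * (4 * j)) h5]; congr 1; omega
  · rw [f36, u36, hmod, pow_eq_pow_mod (4 * (4 * j)) h5]; congr 1; omega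

/-- The factors of an element of the fixed centraliser. -/
theorem C1_factor [Fintype L] (hL : Fintype.card L = 16) (hζ : orderOf ζ = 5)
    {g : GL chevE6.Idx L} (hg : g ∈ C1 ζ) :
    ∃ (t u : ℕ → L) (k : ℕ) (i : Fin 24),
      (∀ r, r ∉ rootsS → t r = 0) ∧ (∀ r, 36 ≤ r → r < 72 → t r = 0 ∨ t r = 1) ∧
      (∀ r, r ∉ rootsS → u r = 0) ∧ (∀ r, ¬ (36 ≤ r ∧ (c).T.wlT (wordE i) r < 36) → u r = 0) ∧
      (∀ r, 36 ≤ r → r < 72 → u r = 0 ∨ u r = 1) ∧
      g = (c).oprod (c).T.h t * zv ζ z0v ^ k * (c).nw L (wordE i) * (c).oprod (c).T.h u := by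
  obtain ⟨hgG, hgc, hgf⟩ := (mem_C1 ζ).1 hg
  obtain ⟨z, hzdef⟩ : ∃ z : ℕ → Lˣ, z = fun i => ζ ^ z0v.getD i 0 := ⟨_, rfl⟩
  obtain ⟨τ, hτ⟩ : ∃ τ, τ = (c).torus z := ⟨_, rfl⟩
  have hτ0 : zv ζ z0v = τ := by rw [hτ, hzdef]; rfl
  rw [hτ0] at hgc
  have hS : ∀ r < 72, (c).tchar z r = 1 → r ∈ rootsS := fun r hr h =>
    tchar_z0_eq_one hζ hr (hzdef ▸ h)
  have hτH : τ ∈ chevE6.diagonalSubgroup L := hτ ▸ (c).torus_mem z
  obtain ⟨b, hb, a, ha, W, hW, u, hu, e⟩ := (c).bruhat_exists hgG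
  obtain ⟨v, hv, d, hd, rfl⟩ := (c).mem_borel_iff.1 hb
  set n := a * (c).nw L W with hn
  have hnN : n ∈ chevE6.monomialSubgroup L := (c).mem_monomial_iff.2 ⟨a, ha, W, hW, rfl⟩
  have hv' : τ * v * τ⁻¹ ∈ chevE6.posUnipotent L :=
    (Subgroup.mem_normalizer_iff.1 ((c).H_le_normalizer_U hτH) v).1 hv
  have hu' : τ * u * τ⁻¹ ∈ (c).KS L ((c).invSet W) (c).T.h :=
    hτ ▸ (c).torus_conj_KS (fun r hr => hr.1.2) z hu
  set k := τ * n * τ⁻¹ * n⁻¹ with hkdef
  have hk : k ∈ chevE6.diagonalSubgroup L := by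
    have := mul_mem hτH ((c).N_conj_H hnN (inv_mem hτH))
    simpa [k, mul_assoc] using this
  have e' : τ * v * τ⁻¹ * (d * k) * n * (τ * u * τ⁻¹) = v * d * n * u := by
    have hd' : τ * d = d * τ := (c).H_mul_comm hτH hd
    calc τ * v * τ⁻¹ * (d * k) * n * (τ * u * τ⁻¹)
        = τ * v * τ⁻¹ * (d * τ) * n * u * τ⁻¹ := by simp only [k]; group
      _ = τ * g * τ⁻¹ := by rw [← hd', e]; group
      _ = v * d * n * u := by rw [← hgc, mul_inv_cancel_right, e]
  obtain ⟨h2, h3⟩ := (c).bruhat_unique_factors ha hW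
    (mul_mem (Subgroup.mem_sup_left hv') ((c).H_le_B (mul_mem hd hk)))
    (mul_mem (Subgroup.mem_sup_left hv) ((c).H_le_B hd)) hu' hu e'
  have h4 : v⁻¹ * (τ * v * τ⁻¹) = d * (d * k)⁻¹ :=
    calc v⁻¹ * (τ * v * τ⁻¹) = v⁻¹ * (τ * v * τ⁻¹ * (d * k)) * (d * k)⁻¹ := by group
      _ = _ := by rw [h2]; group
  have h5 := (c).U_inf_H.le (Subgroup.mem_inf.2 ⟨mul_mem (inv_mem hv) hv',
    h4 ▸ mul_mem hd (inv_mem (mul_mem hd hk))⟩)
  rw [Subgroup.mem_bot] at h5
  have hk1 : k = 1 := by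
    rw [h4, mul_inv_eq_one] at h5
    exact left_eq_mul.1 h5
  have hkeep : (c).KeepsChar z W := ((c).commute_mono_iff z ha hW).1 (by
    rw [← hτ]
    exact mul_inv_eq_iff_eq_mul.1 (mul_inv_eq_one.1 hk1))
  have hv2 := hv
  rw [(c).U_eq_KS_pos] at hv2
  have hvP : v ∈ (c).KS L ({r | (c).Pos r} ∩ {r | (c).tchar z r = 1}) (c).T.h :=
    (c).mem_KS_of_commute (c).pos_closedSet z hv2 (hτ ▸ (inv_mul_eq_one.1 h5).symm)
  have huS : u ∈ (c).KS L ((c).invSet W ∩ {r | (c).tchar z r = 1}) (c).T.h :=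
    (c).mem_KS_of_commute ((c).invSet_closed hW) z hu (hτ ▸ h3)
  obtain ⟨i, hi⟩ := exists_same hζ hW (hzdef ▸ hkeep)
  have hWE : (c).nw L W = (c).nw L (wordE i) := nw_congr hW (wordE_lt i) hi
  have hinv : (c).invSet W = (c).invSet (wordE i) := Set.ext fun r =>
    and_congr_right fun hr => by rw [(c).wl_eq_of_same hW (wordE_lt i) hi hr.2]
  rw [hinv] at huS
  obtain ⟨d', hd'⟩ : ∃ d', d' = d * a := ⟨_, rfl⟩
  have hd'H : d' ∈ chevE6.diagonalSubgroup L := hd' ▸ mul_mem hd ha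
  have eg : g = v * d' * (1 * (c).nw L (wordE i)) * u := by
    rw [e, hn, hWE, hd']; group
  have hPS : ∀ r ∈ ({r | (c).Pos r} ∩ {r | (c).tchar z r = 1} : Set ℕ), r ∈ rootsS :=
    fun r hr => hS r hr.1.2 hr.2
  have hIS : ∀ r ∈ ((c).invSet (wordE i) ∩ {r | (c).tchar z r = 1} : Set ℕ), r ∈ rootsS :=
    fun r hr => hS r hr.1.1.2 hr.2
  have hPc := (c).closed_inter_ker z (c).pos_closedSet
  have hIc := (c).closed_inter_ker z ((c).invSet_closed (wordE_lt i))
  have hle : (c).KS L ((c).invSet (wordE i) ∩ {r | (c).tchar z r = 1}) (c).T.h ≤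
      (c).KS L ((c).invSet (wordE i)) (c).T.h :=
    Subgroup.closure_mono fun x ⟨r, t, hr, hm, e⟩ => ⟨r, t, hr.1, hm, e⟩
  have efix : Psi [0] v * Psi [0] d' * (1 * (c).nw L (wordE i)) * Psi [0] u =
      v * d' * (1 * (c).nw L (wordE i)) * u := by
    rw [← eg, one_mul]
    conv_rhs => rw [← hgf, eg, one_mul, map_mul, map_mul, map_mul, Psi_wordE]
  have hdfix : Psi [0] d' ∈ chevE6.diagonalSubgroup L := by
    obtain ⟨w, rfl⟩ := (c).diagonalSubgroup_eq.le hd'H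
    obtain ⟨w', hw', -⟩ := Psi_torus (W := [0]) (by simp) w
    rw [hw']
    exact (c).torus_mem w'
  obtain ⟨g2, g3⟩ := (c).bruhat_unique_factors (one_mem _) (wordE_lt i)
    (mul_mem (Subgroup.mem_sup_left ((c).KS_le_U hPc _ (Psi_KS hPS hvP))) ((c).H_le_B hdfix))
    (mul_mem (Subgroup.mem_sup_left ((c).KS_le_U hPc _ hvP)) ((c).H_le_B hd'H))
    (hle (Psi_KS hIS huS)) (hle huS) efix
  have g4 : v⁻¹ * Psi [0] v = d' * (Psi [0] d')⁻¹ :=
    calc v⁻¹ * Psi [0] v = v⁻¹ * (Psi [0] v * Psi [0] d') * (Psi [0] d')⁻¹ := by group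
      _ = _ := by rw [g2]; group
  have g5 := (c).U_inf_H.le (Subgroup.mem_inf.2
    ⟨mul_mem (inv_mem ((c).KS_le_U hPc _ hvP)) ((c).KS_le_U hPc _ (Psi_KS hPS hvP)),
      g4 ▸ mul_mem hd'H (inv_mem hdfix)⟩)
  rw [Subgroup.mem_bot] at g5
  have hvfix : Psi [0] v = v := (inv_mul_eq_one.1 g5).symm
  have hd'fix : Psi [0] d' = d' := by
    rw [g4, mul_inv_eq_one] at g5
    exact g5.symm
  obtain ⟨t, ht, ht01, rfl⟩ := fixed_oprod hPc hPS hvP hvfix
  obtain ⟨w, hw, hw01, rfl⟩ := fixed_oprod hIc hIS huS g3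
  obtain ⟨m, rfl⟩ := torus_fixed hL hζ hd'H hd'fix
  refine ⟨t, w, m, i, fun r hr => ht r fun h => hr (hPS r h), ht01,
    fun r hr => hw r fun h => hr (hIS r h), fun r hr => hw r fun h => hr ?_, hw01, ?_⟩
  · obtain ⟨⟨hp, hnp⟩, -⟩ := h
    refine ⟨hp.1, ?_⟩
    rw [(c).wlT_eq]
    by_contra hh
    exact hnp ⟨by show 36 ≤ _; omega, (c).wl_lt (wordE_lt i) hp.2⟩
  · rw [eg, hτ0, one_mul]

end Cfsg.Agent.Lie.Chev.E6Five
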