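import Cfsg.Agent.Lib.Lie.Chev.E6Five.Torus

/-! The data of the centraliser of an element of order five of ²E₆(2): the roots of its A₃, the
Weyl group of that A₃, four roots carrying the natural module. -/

set_option autoImplicit false
set_option maxRecDepth 40000

namespace Cfsg.Agent.Lie.Chev.E6Five

open Cfsg.Lie Matrix

local notation "c" => certFullE6

/-- The exponent vector of the element. -/
def z0v : List ℕ := [1, 0, 0, 0, 0, 2]

/-- The roots orthogonal to the pair `p₁`, `p₆`. -/
def rootsS : List ℕ := [0, 1, 2, 24, 25, 32, 39, 46, 47, 69, 70, 71]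

/-- Elements of the Weyl group of the A₃ in the three reflections. -/
def genWords : List (List ℕ) :=
  [[], [0], [1], [2], [0, 1], [0, 2], [1, 0], [1, 2], [2, 1], [0, 1, 0], [0, 1, 2], [0, 2, 1],
    [1, 0, 2], [1, 2, 1], [2, 1, 0], [0, 1, 0, 2], [0, 1, 2, 1], [0, 2, 1, 0], [1, 0, 2, 1],
    [1, 2, 1, 0], [0, 1, 0, 2, 1], [0, 1, 2, 1, 0], [1, 0, 2, 1, 0], [0, 1, 0, 2, 1, 0]]

/-- The words of the three reflections. -/
def refWord (i : ℕ) : List ℕ := [[1], [3], word69].getD i []

/-- The words of the Weyl group of the A₃. -/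
def wordE (i : Fin 24) : List ℕ := ((genWords.getD i.val []).map refWord).flatten

/-- The roots of a word in the A₃ made negative. -/
def invS (i : Fin 24) : Finset (Fin 72) :=
  Finset.univ.filter fun r => Nat.ble 36 r.val && rootsS.contains r.val &&
    Nat.blt ((c).T.wlT (wordE i) r.val) 36

/-- The positive roots of the A₃. -/
def posS : Finset (Fin 72) :=
  Finset.univ.filter fun r => Nat.ble 36 r.val && rootsS.contains r.val

theorem card_tuples :
    2 ^ posS.card * 5 * (∑ i : Fin 24, 2 ^ (invS i).card) = 5 * 20160 := by decide +kernel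

theorem wordE_lt : ∀ i : Fin 24, ∀ p ∈ wordE i, p < 6 := by decide +kernel

theorem ex_z0v_iff : ∀ s < 72, (ex z0v s = 0 ↔ s ∈ rootsS) := by decide +kernel

theorem rootsS_lt : ∀ s ∈ rootsS, s < 72 := by decide

/-- The roots of the A₃ are fixed by the twisted Frobenius. -/
theorem sigma_rootsS :
    ∀ s ∈ rootsS, (c).T.wlT [0] (graphE6.ρ s) = s := by decide +kernel

theorem sigma_zv : ∀ s < 72, ex z0v ((c).T.wlT [0] (graphE6.ρ s)) = 2 * ex z0v s % 5 := by
  decide +kernel

theorem sigma_wordE : ∀ i : Fin 24, ∀ q < 6,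
    (c).T.wlT ([0] ++ (wordE i).map graphE6.τ) ((c).T.simple q) =
      (c).T.wlT (wordE i ++ [0]) ((c).T.simple q) := by decide +kernel

theorem sigma_simple : (c).T.wlT [0] (graphE6.ρ 46) = 46 ∧ (c).T.wlT [0] (graphE6.ρ 39) = 39 ∧
    (c).T.wlT [0] (graphE6.ρ 42) = 37 ∧ (c).T.wlT [0] (graphE6.ρ 56) = 36 ∧
    (c).T.wlT [0] (graphE6.ρ 36) = 15 ∧ (c).T.wlT [0] (graphE6.ρ 37) = 57 ∧
    (List.range 6).map ((c).T.vec 57) = [1, 0, 1, 0, 0, 0] ∧
    (List.range 6).map ((c).T.vec 15) = [-1, 0, 0, 0, 0, 0] ∧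
    [56, 46, 42, 39, 37, 36].map (ex z0v) = [2, 0, 4, 0, 3, 4] := by decide +kernel

/-- A partial assignment of images of the fundamental roots keeps exponents and pairings. -/
def extOk (acc : List ℕ) (k x : ℕ) : Bool :=
  Nat.beq (ex z0v x) (ex z0v ((c).T.simple k)) &&
    (List.range k).all fun j =>
      intBeq ((c).T.pairing (acc.getD j 0) x) ((c).T.pairing ((c).T.simple j) ((c).T.simple k))

/-- A word that composed with the graph symmetry keeps the exponents. -/
def wordU : List ℕ := [2, 3, 4, 5, 0, 2, 3, 4, 2, 3, 0, 2]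

/-- Every such assignment comes from the words of the A₃, possibly with the graph symmetry. -/
def checkFrom : ℕ → List ℕ → Bool
  | 0, acc => (List.finRange 24).any fun i =>
      ((List.range 6).all fun q => Nat.beq ((c).T.wlT (wordE i) ((c).T.simple q)) (acc.getD q 0)) ||
        ((List.range 6).all fun q => Nat.beq
          ((c).T.wlT (wordE i ++ wordU) ((c).T.simple (graphE6.τ q))) (acc.getD q 0))
  | fuel + 1, acc => (List.range 72).all fun x =>
      bif extOk acc acc.length x then checkFrom fuel (acc ++ [x]) else true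

theorem checkFrom_ok : checkFrom 6 [] = true := by decide +kernel

theorem exists_wordE {f : ℕ → ℕ} (hlt : ∀ q < 6, f q < 72)
    (hex : ∀ q < 6, ex z0v (f q) = ex z0v ((c).T.simple q))
    (hpair : ∀ j < 6, ∀ k < 6,
      (c).T.pairing (f j) (f k) = (c).T.pairing ((c).T.simple j) ((c).T.simple k)) :
    ∃ i : Fin 24, (∀ q < 6, (c).T.wlT (wordE i) ((c).T.simple q) = f q) ∨
      ∀ q < 6, (c).T.wlT (wordE i ++ wordU) ((c).T.simple (graphE6.τ q)) = f q := by
  have key : ∀ fuel k, fuel + k = 6 → checkFrom fuel ((List.range k).map f) = true →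
      ∃ i : Fin 24, (∀ q < 6, (c).T.wlT (wordE i) ((c).T.simple q) = f q) ∨
        ∀ q < 6, (c).T.wlT (wordE i ++ wordU) ((c).T.simple (graphE6.τ q)) = f q := by
    intro fuel
    induction fuel with
    | zero =>
      intro k hk h
      simp only [checkFrom, List.any_eq_true, Bool.or_eq_true, List.all_eq_true, List.mem_range,
        Nat.beq_eq] at h
      obtain ⟨i, -, hi⟩ := h
      refine ⟨i, hi.imp (fun hi q hq => ?_) fun hi q hq => ?_⟩ <;>
      · rw [hi q hq, List.getD_eq_getElem _ _ (by simp; omega)]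
        simp
    | succ fuel ih =>
      intro k hk h
      simp only [checkFrom, List.all_eq_true, List.mem_range, List.length_map,
        List.length_range] at h
      have hk' : k < 6 := by omega
      have hext : extOk ((List.range k).map f) k (f k) = true := by
        simp only [extOk, Bool.and_eq_true, Nat.beq_eq, List.all_eq_true, List.mem_range]
        refine ⟨hex k hk', fun j hj => ?_⟩
        rw [List.getD_eq_getElem _ _ (by simp; omega)]
        simp only [List.getElem_map, List.getElem_range]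
        rw [hpair j (by omega) k hk']
        cases (c).T.pairing ((c).T.simple j) ((c).T.simple k) <;> simp [intBeq]
      have h' := h (f k) (hlt k hk')
      rw [hext, cond_true] at h'
      refine ih (k + 1) (by omega) ?_
      rw [List.range_succ, List.map_append, List.map_singleton]
      exact h'
  exact key 6 0 rfl checkFrom_ok

theorem word69_eq : word69 = [2, 0, 4, 3, 1, 2, 3, 4] ++ [5] ++ ([2, 0, 4, 3, 1, 2, 3, 4] : List ℕ).reverse ∧
    (c).T.wlT [2, 0, 4, 3, 1, 2, 3, 4] ((c).T.simple 5) = 69 ∧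
    (c).T.simple 1 = 46 ∧ (c).T.simple 3 = 39 ∧
    (c).T.neg 69 = 2 ∧ (c).T.neg 46 = 25 ∧ (c).T.neg 39 = 32 := by decide +kernel

/-- The four roots of the natural module. -/
def orb (j : Fin 4) : ℕ := [3, 37, 40, 48].getD j.val 0

/-- The matrix of a root element on the four roots. -/
def natMat (s : ℕ) : Matrix (Fin 4) (Fin 4) (ZMod 2) :=
  Matrix.of fun i j => (if i = j then 1 else 0) +
    (if (c).T.entry s (orb j) |>.any (fun q => Nat.beq q.1 (orb i)) then 1 else 0)

theorem orb_chain : ∀ s ∈ rootsS, ∀ j : Fin 4, (orb j ≠ s ∧ orb j ≠ (c).T.neg s) ∧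
    ((c).T.entry s (orb j) = [] ∨ ∃ i : Fin 4, i ≠ j ∧
      ((c).T.entry s (orb j) = [(orb i, 1)] ∨ (c).T.entry s (orb j) = [(orb i, -1)])) := by
  decide +kernel

theorem natMat_sq : ∀ s ∈ rootsS, natMat s * natMat s = 1 := by decide +kernel

theorem orb_inj : ∀ i j : Fin 4, orb i = orb j → i = j := by decide

theorem orb_lt : ∀ j : Fin 4, orb j < 72 := by decide

theorem orb_ex : ∀ j : Fin 4, ex z0v (orb j) = 3 := by decide +kernel

end Cfsg.Agent.Lie.Chev.E6Five
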