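import Cfsg.Agent.Lib.Lie.Chev.E6Five.Base
import Cfsg.Agent.Lib.Lie.Chev.FieldAut

/-! ²E₆(2) as the group of fixed points in E₆(16). -/

set_option autoImplicit false
set_option maxRecDepth 8000

namespace Cfsg.Agent.Lie.Chev.E6Five

open Cfsg.Lie Matrix

local notation "c" => certFullE6

variable {L : Type*} [Field L] [CharP L 2]

variable (L) in
/-- The fixed points of the Frobenius. -/
noncomputable def Hfix : Subgroup (GL chevE6.Idx L) :=
  chevE6.group L ⊓ (Phi (L := L)).eqLocus (MonoidHom.id _)

theorem mem_Hfix {g : GL chevE6.Idx L} :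
    g ∈ Hfix L ↔ g ∈ chevE6.group L ∧ Phi g = g := Iff.rfl

theorem map_unit {K : Type*} [Field K] (f : K →+* L) :
    Matrix.GeneralLinearGroup.map (n := chevE6.Idx) f (graphE6.unit K) = graphE6.unit L := by
  refine Units.ext (Matrix.ext fun i j => ?_)
  show f (graphE6.mat K i j) = graphE6.mat L i j
  rcases j with j | j <;> rcases i with i | i <;>
    simp [CertFull.Graph.mat, hvec, evec, apply_ite f]

theorem Phi_map {K : Type*} [Field K] [CharP K 2] (f : K →+* L) (g : GL chevE6.Idx K) :
    Phi (Matrix.GeneralLinearGroup.map (n := chevE6.Idx) f g) =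
      Matrix.GeneralLinearGroup.map (n := chevE6.Idx) f (Phi g) := by
  rw [Phi_apply, Phi_apply, map_mul, map_mul, map_inv, map_unit]
  congr 2
  refine Units.ext (Matrix.ext fun i j => ?_)
  show frobenius L 2 (f ((g : Matrix chevE6.Idx chevE6.Idx K) i j)) =
    f (frobenius K 2 ((g : Matrix chevE6.Idx chevE6.Idx K) i j))
  rw [frobenius_def, frobenius_def, map_pow]

theorem Phi_Phi {g : GL chevE6.Idx L} (hg : g ∈ chevE6.group L) :
    Phi (Phi g) =
      Matrix.GeneralLinearGroup.map (n := chevE6.Idx) ((frobenius L 2).comp (frobenius L 2)) g := by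
  have h : chevE6.group L ≤ MonoidHom.eqLocus ((Phi (L := L)).comp Phi)
      (Matrix.GeneralLinearGroup.map (n := chevE6.Idx) ((frobenius L 2).comp (frobenius L 2))) := by
    conv_lhs => rw [(c).group_eq]
    refine (Subgroup.closure_le _).2 ?_
    rintro _ ⟨r, hr, t, rfl⟩
    show Phi (Phi ((c).xg r t)) = _
    rw [Phi_xg hr, Phi_xg (rho_lt hr), rho_rho r hr, (c).xg_map, RingHom.comp_apply, frobenius_def,
      frobenius_def]
  exact h hg

variable {K : Type*} [Field K] [Fintype K] [CharP K 2]

theorem tw_act {y : GL chevE6.Idx K} (hy : y ∈ chevE6.group K) :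
    (E6.tw (frobenius K 2)).act y = Phi y := (E6.tw (frobenius K 2)).act_eq hy

theorem fix_eq (hK : Fintype.card K = 4) :
    twistedE6 K 2 = (E6.tw (frobenius K 2)).fix :=
  (E6.datum (frobenius K 2) (fun t => frobenius_def (R := K) (p := 2) t)
    (show Fintype.card K = 2 ^ 2 by rw [hK]; rfl)).eq_fix

variable [Fintype L] (ι : K →+* L)

theorem map_mem_group {y : GL chevE6.Idx K} (hy : y ∈ chevE6.group K) :
    Matrix.GeneralLinearGroup.map (n := chevE6.Idx) ι y ∈ chevE6.group L := by
  have h : chevE6.group K ≤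
      (chevE6.group L).comap (Matrix.GeneralLinearGroup.map (n := chevE6.Idx) ι) := by
    conv_lhs => rw [(c).group_eq]
    refine (Subgroup.closure_le _).2 ?_
    rintro _ ⟨r, hr, t, rfl⟩
    rw [SetLike.mem_coe, Subgroup.mem_comap, (c).xg_mapHom]
    exact (c).xg_mem_group hr _
  exact h hy

theorem map_injective : Function.Injective (Matrix.GeneralLinearGroup.map (n := chevE6.Idx) ι) :=
  fun a b e => Units.ext (Matrix.ext fun i j => ι.injective
    (congrArg (fun g : GL chevE6.Idx L => (g : Matrix chevE6.Idx chevE6.Idx L) i j) e))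

/-- The fixed points in E₆(16) are the twisted group over the field with four elements. -/
theorem map_twisted (hK : Fintype.card K = 4) (hL : Fintype.card L = 16) :
    (twistedE6 K 2).map (Matrix.GeneralLinearGroup.map (n := chevE6.Idx) ι) = Hfix L := by
  rw [fix_eq hK]
  obtain ⟨σ, hσ⟩ : ∃ σ : L →+* L, σ = (frobenius L 2).comp (frobenius L 2) := ⟨_, rfl⟩
  have hσt : ∀ t, σ t = t ^ 4 := fun t => by
    rw [hσ, RingHom.comp_apply, frobenius_def, frobenius_def, ← pow_mul]
  have hrange : Set.range ι = {t | σ t = t} := by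
    classical
    refine Set.eq_of_subset_of_ncard_le ?_ ?_ (Set.toFinite _)
    · rintro _ ⟨t, rfl⟩
      show σ (ι t) = ι t
      rw [hσt, ← map_pow, ← hK, FiniteField.pow_card]
    · rw [Set.ncard_range_of_injective ι.injective, Nat.card_eq_fintype_card, hK]
      obtain ⟨P, hP⟩ : ∃ P : Polynomial L, P = Polynomial.X ^ 4 - Polynomial.X := ⟨_, rfl⟩
      have hP0 : P ≠ 0 := hP ▸ FiniteField.X_pow_card_sub_X_ne_zero L (by norm_num)
      have hdeg : P.natDegree = 4 :=
        hP ▸ FiniteField.X_pow_card_sub_X_natDegree_eq L (by norm_num)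
      calc {t : L | σ t = t}.ncard ≤ (↑P.roots.toFinset : Set L).ncard := by
            refine Set.ncard_le_ncard (fun t ht => ?_) (Set.toFinite _)
            rw [Finset.mem_coe, Multiset.mem_toFinset, Polynomial.mem_roots hP0]
            have ht' : t ^ 4 = t := by rw [← hσt]; exact ht
            simp [hP, ht']
        _ ≤ 4 := by
            rw [Set.ncard_coe_finset]
            exact (Multiset.toFinset_card_le _).trans (hdeg ▸ Polynomial.card_roots' P)
  refine le_antisymm ?_ fun g hg => ?_
  · rintro _ ⟨y, hy, rfl⟩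
    obtain ⟨hy1, hy2⟩ := (E6.tw (frobenius K 2)).mem_fix.1 hy
    exact mem_Hfix.2 ⟨map_mem_group ι hy1, by rw [Phi_map, ← tw_act hy1, hy2]⟩
  · obtain ⟨hg1, hg2⟩ := mem_Hfix.1 hg
    have hσg : Matrix.GeneralLinearGroup.map (n := chevE6.Idx) σ g = g := by
      rw [hσ, ← Phi_Phi hg1, hg2, hg2]
    obtain ⟨l, hl, a, ha, hfa, rfl⟩ := (c).exists_fixed_mul hg1 hσg
    rw [← (c).group_mapHom hrange] at hl
    obtain ⟨l₀, hl₀, rfl⟩ := hl
    obtain ⟨a₀, ha₀, rfl⟩ : ∃ a₀ ∈ chevE6.group K,
        Matrix.GeneralLinearGroup.map (n := chevE6.Idx) ι a₀ = a := by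
      rw [(c).diagonalSubgroup_eq] at ha
      obtain ⟨z, rfl⟩ := ha
      rw [(c).torus_map] at hfa
      obtain ⟨w, hw⟩ : ∃ w : ℕ → Lˣ, w = fun i => z i ^ 3 := ⟨_, rfl⟩
      have hw1 : (c).torus w = 1 := by
        have e : (fun i => Units.map (σ : L →* L) (z i)) = w * z := by
          funext i
          refine Units.ext ?_
          simp [hw, hσt, pow_succ]
        rw [e, map_mul] at hfa
        exact mul_eq_right.1 hfa
      rw [E6.torus_eq_one_iff] at hw1
      obtain ⟨h0, h1, h2, h3, h4, h5⟩ := hw1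
      have hz : ∀ i < 6, z i ^ 3 = 1 := by
        have hc0 : w 0 = 1 := by
          have h15 : z 0 ^ 15 = 1 := by
            rw [show 15 = Fintype.card L - 1 by rw [hL]]
            exact Units.ext (by
              rw [Units.val_pow_eq_pow_val, FiniteField.pow_card_sub_one_eq_one _ (z 0).ne_zero,
                Units.val_one])
          have h5' : w 0 ^ 5 = 1 := by rw [hw, ← pow_mul]; exact h15
          calc w 0 = w 0 * w 0 ^ 5 := by rw [h5', mul_one]
            _ = (w 0 ^ 3) ^ 2 := by rw [← pow_succ', ← pow_mul]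
            _ = 1 := by rw [h0, one_pow]
        intro i hi
        have hwi : w i = 1 := by
          rcases (show i = 0 ∨ i = 1 ∨ i = 2 ∨ i = 3 ∨ i = 4 ∨ i = 5 by omega) with
            rfl | rfl | rfl | rfl | rfl | rfl <;> simp [hc0, h1, h2, h3, h4, h5]
        rw [hw] at hwi
        exact hwi
      have hy : ∀ i < 6, ∃ y : K, ι y = (z i : L) := by
        intro i hi
        have h : (z i : L) ∈ {t | σ t = t} := by
          show σ (z i : L) = z i
          rw [hσt, show (z i : L) ^ 4 = (z i : L) ^ 3 * z i from pow_succ _ 3,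
            ← Units.val_pow_eq_pow_val, hz i hi, Units.val_one, one_mul]
        rw [← hrange] at h
        exact h
      choose! y hy using hy
      have hy0 : ∀ i < 6, y i ≠ 0 := fun i hi e => (z i).ne_zero (by rw [← hy i hi, e, map_zero])
      refine ⟨((List.range 6).map fun i => (c).hg (chevE6.simple i) (y i)).prod,
        Subgroup.list_prod_mem _ fun x hx => ?_, ?_⟩
      · obtain ⟨i, hi, rfl⟩ := List.mem_map.1 hx
        rw [List.mem_range] at hi
        exact (c).B_le_group ((c).H_le_B ((c).hg_mem ((c).simple_lt hi) (hy0 i hi)))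
      · rw [(c).torus_eq_prod, map_list_prod, List.map_map]
        refine congrArg List.prod (List.map_congr_left fun i hi => ?_)
        rw [List.mem_range] at hi
        simp only [Function.comp_apply, Cert.hg, Cert.ng, map_mul, (c).xg_mapHom, map_neg, map_inv₀,
          map_one, hy i hi]
    refine ⟨l₀ * a₀, (E6.tw (frobenius K 2)).mem_fix.2 ⟨mul_mem hl₀ ha₀, ?_⟩, map_mul _ _ _⟩
    apply map_injective ι
    rw [tw_act (mul_mem hl₀ ha₀), ← Phi_map, map_mul]
    exact hg2

end Cfsg.Agent.Lie.Chev.E6Five
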