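import Cfsg.Agent.Lib.Lie.Chev.E6Five.Natural
import Mathlib.GroupTheory.Sylow

/-! One class of elements of order five in ²E₆(2): a Sylow subgroup in a twisted torus and the Weyl
group elements that fuse it. -/

set_option autoImplicit false
set_option maxRecDepth 40000

namespace Cfsg.Agent.Lie.Chev.E6Five

open Cfsg.Lie Matrix

local notation "c" => certFullE6

/-- The twisting word of the second torus. -/
def W2 : List ℕ := word70 ++ (word69 ++ ([1] ++ [0]))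

/-- The exponent vectors of the second torus. -/
def pvec (i j : ℕ) : List ℕ :=
  List.zipWith (fun a b => (i * a + j * b) % 5) [1, 0, 0, 0, 0, 2] [0, 1, 4, 0, 4, 3]

/-- Weyl group elements moving the first vector to each other one. -/
def fuseWords : List (ℕ × ℕ × List ℕ) := [
  (1, 0, []),
  (4, 0, [5, 0]),
  (0, 4, [2, 3, 4, 3, 0, 2, 1, 3, 2, 1, 0]),
  (4, 4, [1, 3, 4, 5, 3, 2, 1, 3, 4, 2, 0]),
  (0, 1, [2, 3, 4, 5, 3, 0, 2, 1, 3, 2, 1]),
  (2, 2, [4, 5, 3, 0, 2, 1, 3, 4, 1, 3, 1]),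
  (1, 2, [4, 5, 4, 3, 2, 1, 3, 4, 1, 3, 1]),
  (3, 2, [3, 0, 2, 1, 3, 4, 2, 1, 3, 0, 2]),
  (0, 2, [5, 3, 2, 1, 3, 4, 2, 1, 3, 0, 2]),
  (1, 1, [4, 3, 2, 1, 3, 4, 5, 2, 3, 4, 2]),
  (1, 3, [2, 3, 4, 5, 2, 1, 3, 4, 2, 1, 3, 2]),
  (1, 4, [5, 0, 2, 3, 4, 3, 0, 2, 1, 3, 2, 1, 0]),
  (3, 3, [4, 3, 0, 2, 1, 3, 4, 5, 4, 1, 3, 1, 0]),
  (4, 3, [5, 4, 3, 2, 1, 3, 4, 5, 4, 1, 3, 1, 0]),
  (0, 3, [3, 2, 1, 3, 4, 5, 4, 2, 1, 3, 0, 2, 0]),
  (2, 3, [3, 0, 2, 1, 3, 4, 5, 2, 1, 3, 0, 2, 0]),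
  (2, 4, [1, 3, 4, 5, 4, 3, 0, 2, 1, 3, 4, 2, 0]),
  (4, 1, [0, 2, 3, 4, 5, 4, 3, 0, 2, 1, 3, 2, 1]),
  (3, 1, [5, 4, 3, 0, 2, 1, 3, 4, 5, 2, 3, 4, 2]),
  (4, 2, [3, 2, 1, 3, 4, 5, 1, 3, 4, 2, 1, 3, 2, 0]),
  (2, 1, [3, 4, 2, 3, 0, 2, 1, 3, 4, 0, 2, 1, 3, 0]),
  (3, 4, [3, 4, 2, 3, 0, 2, 1, 3, 4, 5, 0, 2, 1, 3]),
  (2, 0, [2, 1, 3, 4, 5, 0, 2, 3, 4, 2, 3, 0, 2, 1, 0]),
  (3, 0, [0, 2, 1, 3, 4, 5, 0, 2, 3, 4, 2, 3, 0, 2, 1])]

theorem W2_lt : ∀ p ∈ W2, p < 6 := by decide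

theorem pvec_fix : ∀ i < 5, ∀ j < 5, ∀ s < 72,
    ex (pvec i j) ((c).T.wlT W2 (graphE6.ρ s)) = 2 * ex (pvec i j) s % 5 := by decide +kernel

theorem pvec_add : ∀ i < 5, ∀ j < 5, ∀ i' < 5, ∀ j' < 5, ∀ t < 6,
    ((pvec i j).getD t 0 + (pvec i' j').getD t 0) % 5 =
      (pvec ((i + i') % 5) ((j + j') % 5)).getD t 0 % 5 := by decide +kernel

theorem pvec_ne : ∀ i < 5, ∀ j < 5, (i = 0 ∧ j = 0) ∨
    ∃ s ∈ [56, 46, 42, 39, 37, 36], ex (pvec i j) s ≠ 0 := by decide +kernel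

theorem fuseWords_ok : ∀ x ∈ fuseWords, (∀ p ∈ x.2.2, p < 6) ∧
    (∀ q < 6, (c).T.wlT (W2 ++ x.2.2.map graphE6.τ) ((c).T.simple q) =
      (c).T.wlT (x.2.2 ++ W2) ((c).T.simple q)) ∧
    ∀ s < 72, ex (pvec x.1 x.2.1) ((c).T.wlT x.2.2 s) = ex (pvec 1 0) s := by decide +kernel

theorem fuseWords_all : ∀ i < 5, ∀ j < 5, (i = 0 ∧ j = 0) ∨
    ∃ x ∈ fuseWords, x.1 = i ∧ x.2.1 = j := by decide +kernel

theorem pair_comm : ∀ p ∈ [(70, 47), (70, 24), (1, 47), (1, 24)],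
    (c).T.commTerms p.1 p.2 = [] ∧ p.2 ≠ (c).T.neg p.1 := by decide +kernel

theorem step_roots :
    (c).T.wlT [0] (graphE6.ρ 46) = 46 ∧ (c).T.wlT [0] (graphE6.ρ 25) = 25 ∧
    (c).T.wlT ([1] ++ [0]) (graphE6.ρ 69) = 69 ∧ (c).T.wlT ([1] ++ [0]) (graphE6.ρ 2) = 2 ∧
    (c).T.wlT (word69 ++ ([1] ++ [0])) (graphE6.ρ 70) = 47 ∧
    (c).T.wlT (word69 ++ ([1] ++ [0])) (graphE6.ρ 1) = 24 ∧
    (c).T.wlT (word69 ++ ([1] ++ [0])) (graphE6.ρ 47) = 70 ∧
    (c).T.wlT (word69 ++ ([1] ++ [0])) (graphE6.ρ 24) = 1 ∧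
    (c).T.neg 46 = 25 ∧ (c).T.neg 69 = 2 ∧ (c).T.neg 70 = 1 ∧ (c).T.neg 47 = 24 ∧
    (c).T.simple 1 = 46 ∧ (c).T.wlT [2, 0, 4, 3, 1, 2, 3, 4] ((c).T.simple 5) = 69 ∧
    (c).T.wlT [3, 2, 0, 4, 3, 1, 2, 3, 4] ((c).T.simple 5) = 70 := by decide +kernel

variable {L : Type*} [Field L] [CharP L 2]

theorem nw_palindrome {M : List ℕ} (hM : ∀ p ∈ M, p < 6) {p : ℕ} (hp : p < 6) :
    (c).nw L (M ++ [p] ++ M.reverse) = (c).ng ((c).wl M (chevE6.simple p)) 1 := by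
  have hinv : (c).nw L M.reverse = ((c).nw L M)⁻¹ := by
    refine eq_inv_of_mul_eq_one_right ?_
    rw [← (c).nw_append, nw_congr (V := [])
      (fun q hq => (List.mem_append.1 hq).elim (hM q) (fun h => hM q (List.mem_reverse.1 h)))
      (by simp) fun q hq => ?_, Cert.nw_nil]
    rw [(c).wl_append, (c).wl_reverse hM ((c).simple_lt hq), Cert.wl_nil]
  rw [(c).nw_append, (c).nw_append, hinv, Cert.nw_cons, Cert.nw_nil, mul_one, Cert.np,
    nw_ng hM ((c).simple_lt (i := p) hp)]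

theorem Phi_conj {g : GL chevE6.Idx L} {W : List ℕ} (hg : Phi g = g * (c).nw L W)
    (x : GL chevE6.Idx L) : Phi (g * x * g⁻¹) = g * Psi W x * g⁻¹ := by
  rw [map_mul, map_mul, map_inv, hg, Psi_apply]
  group

theorem Phi_step {g h : GL chevE6.Idx L} {W U : List ℕ} (hg : Phi g = g * (c).nw L W)
    (hh : Psi W h = h * (c).nw L U) : Phi (g * h) = g * h * (c).nw L (U ++ W) := by
  rw [Psi_apply, mul_inv_eq_iff_eq_mul] at hh
  rw [map_mul, hg, (c).nw_append, mul_assoc, hh]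
  group

theorem exists_g1 {η : L} (hη : η ^ 4 = η + 1) :
    ∃ g ∈ chevE6.group L, Phi g = g * (c).nw L [0] := by
  obtain ⟨s0, -, -, -, -, -, -, -, n56, n36, -⟩ := E6.simple_values
  obtain ⟨⟨r1, r2, -, -, -, -, r7, r8, -⟩, -⟩ := E6.graphE6_values
  have h56 : (56 : ℕ) < 72 := by omega
  have h15 : (15 : ℕ) < 72 := by omega
  have h36 : (36 : ℕ) < 72 := by omega
  have h35 : (35 : ℕ) < 72 := by omega
  refine ⟨(c).xg (chevE6.neg 56) η * (c).xg 56 1 *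
    ((c).xg (chevE6.neg 36) (η ^ 2) * (c).xg 36 1), ?_, ?_⟩
  · rw [n56, n36]
    exact mul_mem (mul_mem ((c).xg_mem_group h15 _) ((c).xg_mem_group h56 _))
      (mul_mem ((c).xg_mem_group h35 _) ((c).xg_mem_group h36 _))
  · rw [Cert.nw_cons, Cert.nw_nil, mul_one, Cert.np, s0]
    refine twist_pair Phi h56 (fun t => by rw [Phi_xg h56, r1]) (fun t => ?_)
      (fun t => by rw [Phi_xg h36, r2]) (fun t => ?_) (fun a ha b hb t u => ?_) hη
    · rw [n56, n36, Phi_xg h15, r7]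
    · rw [n56, n36, Phi_xg h35, r8]
    · rw [n56] at ha
      rw [n36] at hb
      exact E6.comm_x (r := 56) (r' := 36) (Or.inl ⟨rfl, rfl⟩) (by simpa using ha)
        (by simpa using hb) t u

theorem exists_g2 {η : L} (hη : η ^ 4 = η + 1) :
    ∃ g ∈ chevE6.group L, Phi g = g * (c).nw L W2 := by
  obtain ⟨g, hg, hgP⟩ := exists_g1 hη
  obtain ⟨e46, e25, e69, e2, e70, e1, e47, e24, n46, n69, n70, n47, s1, w69, w70⟩ := step_roots
  have hω : (η ^ 2 + η) ^ 2 = (η ^ 2 + η) + 1 := by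
    rw [CharTwo.add_sq, ← pow_mul, hη]; ring
  have hneg : ∀ s < 72, chevE6.neg s = (c).T.neg s := fun s hs => (c).neg_eq hs
  have z46 : chevE6.neg 46 = 25 := (hneg 46 (by omega)).trans n46
  have z69 : chevE6.neg 69 = 2 := (hneg 69 (by omega)).trans n69
  have z70 : chevE6.neg 70 = 1 := (hneg 70 (by omega)).trans n70
  have z47 : chevE6.neg 47 = 24 := (hneg 47 (by omega)).trans n47
  have hW0 : ∀ p ∈ [0], p < 6 := by simp
  have hWa : ∀ p ∈ [1] ++ [0], p < 6 := by simp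
  have hWb : ∀ p ∈ word69 ++ ([1] ++ [0]), p < 6 := by decide
  have hP : ∀ {W : List ℕ}, (∀ p ∈ W, p < 6) → ∀ {a b : ℕ}, a < 72 →
      (c).T.wlT W (graphE6.ρ a) = b → ∀ t : L, Psi W ((c).xg a t) = (c).xg b (t ^ 2) :=
    fun hW a b ha e t => by rw [Psi_xg hW ha, ← (c).wlT_eq, e]
  -- the three steps
  obtain ⟨h₁, h₁def⟩ : ∃ h, h = (c).xg (chevE6.neg 46) (η ^ 2 + η) * (c).xg 46 (1 : L) := ⟨_, rfl⟩
  have p1 : Psi [0] h₁ = h₁ * (c).nw L [1] := by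
    rw [h₁def, twist_single (Psi [0]) (hP hW0 (by omega) e46)
      (fun t => by rw [z46]; exact hP hW0 (by omega) e25 t) hω, Cert.nw_cons, Cert.nw_nil, mul_one,
      Cert.np, (c).simple_eq (show (1 : ℕ) < 6 by omega), s1]
  obtain ⟨h₂, h₂def⟩ : ∃ h, h = (c).xg (chevE6.neg 69) (η ^ 2 + η) * (c).xg 69 (1 : L) := ⟨_, rfl⟩
  have p2 : Psi ([1] ++ [0]) h₂ = h₂ * (c).nw L word69 := by
    rw [h₂def, twist_single (Psi ([1] ++ [0])) (hP hWa (by omega) e69)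
      (fun t => by rw [z69]; exact hP hWa (by omega) e2 t) hω,
      show word69 = [2, 0, 4, 3, 1, 2, 3, 4] ++ [5] ++ ([2, 0, 4, 3, 1, 2, 3, 4] : List ℕ).reverse
        from rfl,
      nw_palindrome (by decide) (by omega), ← (c).wlT_eq,
      (c).simple_eq (show (5 : ℕ) < 6 by omega), w69]
  obtain ⟨h₃, h₃def⟩ : ∃ h, h = (c).xg (chevE6.neg 70) η * (c).xg 70 (1 : L) *
      ((c).xg (chevE6.neg 47) (η ^ 2) * (c).xg 47 1) := ⟨_, rfl⟩
  have p3 : Psi (word69 ++ ([1] ++ [0])) h₃ = h₃ * (c).nw L word70 := by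
    rw [h₃def, twist_pair (Psi (word69 ++ ([1] ++ [0]))) (by omega) (hP hWb (by omega) e70)
      (fun t => by rw [z70, z47]; exact hP hWb (by omega) e1 t) (hP hWb (by omega) e47)
      (fun t => by rw [z70, z47]; exact hP hWb (by omega) e24 t) (fun a ha b hb t u => ?_) hη,
      show word70 = [3, 2, 0, 4, 3, 1, 2, 3, 4] ++ [5] ++
        ([3, 2, 0, 4, 3, 1, 2, 3, 4] : List ℕ).reverse from rfl,
      nw_palindrome (by decide) (by omega), ← (c).wlT_eq,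
      (c).simple_eq (show (5 : ℕ) < 6 by omega), w70]
    rw [z70] at ha
    rw [z47] at hb
    simp only [List.mem_cons, List.not_mem_nil, or_false] at ha hb
    have hab : (a, b) ∈ [(70, 47), (70, 24), (1, 47), (1, 24)] := by
      rcases ha with rfl | rfl <;> rcases hb with rfl | rfl <;> simp
    obtain ⟨hc, hne⟩ := pair_comm _ hab
    have ha' : a < 72 := by rcases ha with rfl | rfl <;> omega
    have hb' : b < 72 := by rcases hb with rfl | rfl <;> omega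
    exact (c).xg_commute ha' hb' (by rcases ha with rfl | rfl <;> rcases hb with rfl | rfl <;> omega)
      (by rw [hneg a ha']; exact hne) hc t u
  have hmem : h₁ ∈ chevE6.group L ∧ h₂ ∈ chevE6.group L ∧ h₃ ∈ chevE6.group L := by
    rw [h₁def, h₂def, h₃def, z46, z69, z70, z47]
    refine ⟨mul_mem ?_ ?_, mul_mem ?_ ?_, mul_mem (mul_mem ?_ ?_) (mul_mem ?_ ?_)⟩ <;>
      exact (c).xg_mem_group (show _ < 72 by omega) _
  exact ⟨g * h₁ * h₂ * h₃, mul_mem (mul_mem (mul_mem hg hmem.1) hmem.2.1) hmem.2.2,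
    Phi_step (Phi_step (Phi_step hgP p1) p2) p3⟩

variable [Fintype L]

theorem exists_eta (hL : Fintype.card L = 16) : ∃ η : L, η ^ 4 = η + 1 := by
  classical
  obtain ⟨φ, hφ⟩ : ∃ φ : L → L, φ = fun t => t ^ 4 + t := ⟨_, rfl⟩
  have hadd : ∀ a b, φ (a + b) = φ a + φ b := fun a b => by
    rw [hφ]
    simp only [show (4 : ℕ) = 2 * 2 from rfl, pow_mul, CharTwo.add_sq]
    ring
  let f : L →+ L := AddMonoidHom.mk' φ hadd
  obtain ⟨S, hS⟩ : ∃ S : Finset L, S = Finset.univ.filter fun t => t ^ 4 = t := ⟨_, rfl⟩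
  have hScard : S.card ≤ 4 := by
    obtain ⟨P, hP⟩ : ∃ P : Polynomial L, P = Polynomial.X ^ 4 - Polynomial.X := ⟨_, rfl⟩
    have hP0 : P ≠ 0 := hP ▸ FiniteField.X_pow_card_sub_X_ne_zero L (by norm_num)
    have hdeg : P.natDegree = 4 :=
      hP ▸ FiniteField.X_pow_card_sub_X_natDegree_eq L (by norm_num)
    refine (Finset.card_le_card fun t ht => ?_).trans
      ((Multiset.toFinset_card_le _).trans (hdeg ▸ Polynomial.card_roots' P))
    rw [Multiset.mem_toFinset, Polynomial.mem_roots hP0]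
    simp [hS] at ht
    simp [hP, ht]
  have h16 : ∀ t : L, t ^ 16 = t := fun t => hL ▸ FiniteField.pow_card t
  have himg : ∀ t, φ t ∈ S := fun t => by
    rw [hS, Finset.mem_filter]
    refine ⟨Finset.mem_univ _, ?_⟩
    simp only [hφ, show (4 : ℕ) = 2 * 2 from rfl, pow_mul, CharTwo.add_sq]
    have := h16 t
    linear_combination this
  have hker : ∀ t, φ t = 0 → t ∈ S := fun t ht => by
    rw [hS, Finset.mem_filter]
    rw [hφ] at ht
    exact ⟨Finset.mem_univ _, CharTwo.add_eq_zero.1 ht⟩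
  by_contra hno
  push Not at hno
  have h1 : (1 : L) ∈ S := by simp [hS]
  have hr : Nat.card f.range ≤ 3 := by
    have hsub : (f.range : Set L) ⊆ ↑(S.erase 1) := by
      rintro _ ⟨t, rfl⟩
      refine Finset.mem_coe.2 (Finset.mem_erase.2 ⟨fun e => hno t ?_, himg t⟩)
      change φ t = 1 at e
      rw [hφ] at e
      rw [← e]
      linear_combination -(CharTwo.add_self_eq_zero t)
    calc Nat.card f.range = (f.range : Set L).ncard := rfl
      _ ≤ (↑(S.erase 1) : Set L).ncard := Set.ncard_le_ncard hsub (Set.toFinite _)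
      _ ≤ 3 := by rw [Set.ncard_coe_finset, Finset.card_erase_of_mem h1]; omega
  have hk : Nat.card f.ker ≤ 4 := by
    calc Nat.card f.ker = (f.ker : Set L).ncard := rfl
      _ ≤ (↑S : Set L).ncard := Set.ncard_le_ncard (fun t ht => hker t ht) (Set.toFinite _)
      _ ≤ 4 := by rw [Set.ncard_coe_finset]; exact hScard
  have h := f.ker.card_mul_index
  rw [AddSubgroup.index_ker, Nat.card_eq_fintype_card (α := L), hL] at h
  nlinarith

theorem exists_zeta (hL : Fintype.card L = 16) : ∃ ζ : Lˣ, orderOf ζ = 5 := by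
  haveI := Fact.mk (show Nat.Prime 5 by norm_num)
  refine exists_prime_orderOf_dvd_card' 5 ?_
  rw [Nat.card_units, Nat.card_eq_fintype_card, hL]
  norm_num

theorem conj_mem_Hfix {g : GL chevE6.Idx L} {W : List ℕ} (hgG : g ∈ chevE6.group L)
    (hg : Phi g = g * (c).nw L W) {x : GL chevE6.Idx L} (hx : x ∈ chevE6.group L)
    (hxf : Psi W x = x) : g * x * g⁻¹ ∈ Hfix L :=
  mem_Hfix.2 ⟨mul_mem (mul_mem hgG hx) (inv_mem hgG), by rw [Phi_conj hg, hxf]⟩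

/-- All elements of order five are conjugate. -/
theorem one_class (hL : Fintype.card L = 16)
    (hcard : 3 * Nat.card ↥(Hfix L) =
      2 ^ 36 * (2 ^ 2 - 1) * (2 ^ 5 + 1) * (2 ^ 6 - 1) * (2 ^ 8 - 1) * (2 ^ 9 + 1) * (2 ^ 12 - 1))
    {x y : ↥(Hfix L)} (hx : orderOf x = 5) (hy : orderOf y = 5) : IsConj x y := by
  classical
  haveI := Fact.mk (show Nat.Prime 5 by norm_num)
  haveI : Finite (GL chevE6.Idx L) := inferInstance
  obtain ⟨η, hη⟩ := exists_eta hL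
  obtain ⟨ζ, hζ⟩ := exists_zeta hL
  obtain ⟨g, hgG, hg⟩ := exists_g2 hη
  have h5 : ζ ^ 5 = 1 := hζ ▸ pow_orderOf_eq_one ζ
  -- the map of exponent pairs
  have hpm : ∀ a b : ZMod 5, g * zv ζ (pvec a.val b.val) * g⁻¹ ∈ Hfix L := fun a b =>
    conj_mem_Hfix hgG hg ((c).B_le_group ((c).H_le_B ((c).torus_mem _)))
      (Psi_zv h5 W2_lt _ (pvec_fix _ a.val_lt _ b.val_lt))
  let f : Multiplicative (ZMod 5 × ZMod 5) →* ↥(Hfix L) :=
    MonoidHom.mk' (fun v => ⟨_, hpm v.toAdd.1 v.toAdd.2⟩) fun v w => by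
      refine Subtype.ext ?_
      show g * zv ζ (pvec (v.toAdd.1 + w.toAdd.1).val (v.toAdd.2 + w.toAdd.2).val) * g⁻¹ =
        (g * zv ζ (pvec v.toAdd.1.val v.toAdd.2.val) * g⁻¹) *
          (g * zv ζ (pvec w.toAdd.1.val w.toAdd.2.val) * g⁻¹)
      rw [conj_mul, ZMod.val_add, ZMod.val_add]
      congr 2
      rw [zv, zv, zv, ← map_mul]
      refine congrArg (c).torus (funext fun t => ?_)
      show ζ ^ _ = ζ ^ _ * ζ ^ _
      rw [← pow_add, pow_eq_pow_mod _ h5, pow_eq_pow_mod ((pvec _ _).getD t 0 + _) h5]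
      by_cases ht : t < 6
      · rw [pvec_add _ v.toAdd.1.val_lt _ v.toAdd.2.val_lt _ w.toAdd.1.val_lt _ w.toAdd.2.val_lt
          t ht]
      · have hl : ∀ i j, (pvec i j).getD t 0 = 0 := fun i j =>
          List.getD_eq_default _ _ (by simp [pvec]; omega)
        rw [hl, hl, hl]
  have hfne : ∀ v, f v = 1 → v = 1 := by
    intro v hv
    have e : g * zv ζ (pvec v.toAdd.1.val v.toAdd.2.val) * g⁻¹ = 1 := congrArg Subtype.val hv
    rw [conj_eq_one_iff] at e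
    rcases pvec_ne _ v.toAdd.1.val_lt _ v.toAdd.2.val_lt with ⟨a, b⟩ | ⟨s, hs, hne⟩
    · exact toAdd_eq_zero.1 (Prod.ext ((ZMod.val_eq_zero _).1 a) ((ZMod.val_eq_zero _).1 b))
    · exfalso
      have hs' : s < 72 := by
        simp only [List.mem_cons, List.not_mem_nil, or_false] at hs; omega
      have h := orderOf_zv hζ _ hs' hne
      rw [e, orderOf_one] at h
      omega
  have hinj : Function.Injective f := (injective_iff_map_eq_one f).2 hfne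
  have hPcard : Nat.card ↥f.range = 25 := by
    rw [← Nat.card_congr (MonoidHom.ofInjective hinj).toEquiv]
    simp [Nat.card_prod]
  have hP5 : IsPGroup 5 ↥f.range := IsPGroup.of_card (n := 2) (by rw [hPcard]; rfl)
  obtain ⟨Q, hQ⟩ := hP5.exists_le_sylow
  have hQeq : f.range = (Q : Subgroup ↥(Hfix L)) := by
    obtain ⟨k, hk⟩ := Q.2.exists_card_eq
    refine Subgroup.eq_of_le_of_card_ge hQ ?_
    rw [hk, hPcard]
    have hd : 5 ^ k ∣ Nat.card ↥(Hfix L) := hk ▸ Subgroup.card_subgroup_dvd_card _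
    have hd' : 5 ^ k ∣ 2 ^ 36 * (2 ^ 2 - 1) * (2 ^ 5 + 1) * (2 ^ 6 - 1) * (2 ^ 8 - 1) * (2 ^ 9 + 1) *
        (2 ^ 12 - 1) := hcard ▸ Dvd.dvd.mul_left hd 3
    by_contra hlt
    have h3 : 3 ≤ k := by
      by_contra hk3
      exact hlt ((Nat.pow_le_pow_right (by norm_num) (show k ≤ 2 by omega)).trans le_rfl)
    have := (Nat.pow_dvd_pow 5 h3).trans hd'
    revert this
    norm_num
  -- every element of order five is conjugate to one of them
  have key : ∀ x : ↥(Hfix L), orderOf x = 5 → IsConj (f (Multiplicative.ofAdd (1, 0))) x := by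
    intro x hx
    have hxp : IsPGroup 5 ↥(Subgroup.zpowers x) :=
      IsPGroup.of_card (n := 1) (by rw [Nat.card_zpowers, hx, pow_one])
    obtain ⟨R, hR⟩ := hxp.exists_le_sylow
    obtain ⟨k, hk⟩ := MulAction.exists_smul_eq ↥(Hfix L) R Q
    have hkx : k * x * k⁻¹ ∈ f.range := by
      rw [hQeq, ← hk]
      exact ⟨x, hR (Subgroup.mem_zpowers x), rfl⟩
    obtain ⟨v, hv⟩ := hkx
    have hconj : IsConj x (f v) := isConj_iff.2 ⟨k, hv.symm⟩
    refine IsConj.trans ?_ hconj.symm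
    rcases fuseWords_all _ v.toAdd.1.val_lt _ v.toAdd.2.val_lt with ⟨a, b⟩ | ⟨w, hw, hi, hj⟩
    · exfalso
      have hv1 : v = 1 :=
        toAdd_eq_zero.1 (Prod.ext ((ZMod.val_eq_zero _).1 a) ((ZMod.val_eq_zero _).1 b))
      rw [hv1, map_one] at hconj
      rw [isConj_one_right.1 hconj.symm, orderOf_one] at hx
      omega
    · obtain ⟨hlt, hsame, hex⟩ := fuseWords_ok w hw
      have hfix : Psi W2 ((c).nw L w.2.2) = (c).nw L w.2.2 := Psi_nw W2_lt hlt fun q hq => by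
        rw [← (c).wlT_eq, ← (c).wlT_eq, (c).simple_eq hq]
        exact hsame q hq
      refine isConj_iff.2 ⟨⟨g * (c).nw L w.2.2 * g⁻¹,
        conj_mem_Hfix hgG hg ((c).N_le_group ((c).nw_mem_N hlt)) hfix⟩, Subtype.ext ?_⟩
      show g * (c).nw L w.2.2 * g⁻¹ * (g * zv ζ (pvec (1 : ZMod 5).val (0 : ZMod 5).val) * g⁻¹) *
          (g * (c).nw L w.2.2 * g⁻¹)⁻¹ = g * zv ζ (pvec v.toAdd.1.val v.toAdd.2.val) * g⁻¹
      rw [← hi, ← hj, show ((1 : ZMod 5).val) = 1 from rfl, show ((0 : ZMod 5).val) = 0 from rfl,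
        ← nw_zv h5 hlt (pvec 1 0) (pvec w.1 w.2.1) hex]
      group
  exact (key x hx).symm.trans (key y hy)

/-- The centraliser of an element of order five. -/
theorem centraliser_shape (hL : Fintype.card L = 16)
    (hcard : 3 * Nat.card ↥(Hfix L) =
      2 ^ 36 * (2 ^ 2 - 1) * (2 ^ 5 + 1) * (2 ^ 6 - 1) * (2 ^ 8 - 1) * (2 ^ 9 + 1) * (2 ^ 12 - 1))
    {x : ↥(Hfix L)} (hx : orderOf x = 5) :
    Nonempty (↥(Subgroup.centralizer ({x} : Set ↥(Hfix L))) ≃*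
      Multiplicative (ZMod 5) × ↥(alternatingGroup (Fin 8))) := by
  obtain ⟨η, hη⟩ := exists_eta hL
  obtain ⟨ζ, hζ⟩ := exists_zeta hL
  obtain ⟨g, hgG, hg⟩ := exists_g1 hη
  obtain ⟨hzG, -, hzf⟩ := (mem_C1 ζ).1 (zv_mem_C1 hζ)
  obtain ⟨x₀, hx₀⟩ : ∃ x₀ : ↥(Hfix L), (x₀ : GL chevE6.Idx L) = g * zv ζ z0v * g⁻¹ :=
    ⟨⟨_, conj_mem_Hfix hgG hg hzG hzf⟩, rfl⟩
  have ho : orderOf x₀ = 5 := by
    rw [← Subgroup.orderOf_coe, hx₀, ← MulAut.conj_apply, MulEquiv.orderOf_eq]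
    exact orderOf_zv hζ z0v (show 56 < 72 by omega) (by decide +kernel)
  obtain ⟨k, hk⟩ := isConj_iff.1 (one_class hL hcard hx ho)
  -- the centraliser of the representative
  have hsub : (Subgroup.centralizer ({x₀} : Set ↥(Hfix L))).map (Hfix L).subtype =
      (C1 ζ).map (MulAut.conj g).toMonoidHom := by
    refine le_antisymm ?_ ?_
    · rintro _ ⟨h, hh, rfl⟩
      obtain ⟨hhG, hhf⟩ := mem_Hfix.1 h.2
      refine ⟨g⁻¹ * h * g, (mem_C1 ζ).2 ⟨mul_mem (mul_mem (inv_mem hgG) hhG) hgG, ?_, ?_⟩, ?_⟩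
      · have e : (h : GL chevE6.Idx L) * (g * zv ζ z0v * g⁻¹) = g * zv ζ z0v * g⁻¹ * h := by
          rw [← hx₀]
          exact congrArg Subtype.val (Subgroup.mem_centralizer_singleton_iff.1 hh)
        calc g⁻¹ * h * g * zv ζ z0v = g⁻¹ * (↑h * (g * zv ζ z0v * g⁻¹)) * g := by group
          _ = _ := by rw [e]; group
      · have e := Phi_conj hg (g⁻¹ * (h : GL chevE6.Idx L) * g)
        rw [show g * (g⁻¹ * (h : GL chevE6.Idx L) * g) * g⁻¹ = h by group, hhf] at e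
        calc Psi [0] (g⁻¹ * ↑h * g) = g⁻¹ * (g * Psi [0] (g⁻¹ * ↑h * g) * g⁻¹) * g := by group
          _ = _ := by rw [← e]
      · show g * (g⁻¹ * (h : GL chevE6.Idx L) * g) * g⁻¹ = h
        group
    · rintro _ ⟨a, ha, rfl⟩
      obtain ⟨haG, hac, haf⟩ := (mem_C1 ζ).1 ha
      refine ⟨⟨_, conj_mem_Hfix hgG hg haG haf⟩, ?_, rfl⟩
      refine Subgroup.mem_centralizer_singleton_iff.2 (Subtype.ext ?_)
      show g * a * g⁻¹ * (x₀ : GL chevE6.Idx L) = x₀ * (g * a * g⁻¹)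
      rw [hx₀, conj_mul, conj_mul, hac]
  obtain ⟨e⟩ := C1_shape hL hζ
  have hcen : (Subgroup.centralizer ({x} : Set ↥(Hfix L))).map (MulAut.conj k).toMonoidHom =
      Subgroup.centralizer ({x₀} : Set ↥(Hfix L)) := by
    ext h
    rw [Subgroup.mem_map_equiv, Subgroup.mem_centralizer_singleton_iff,
      Subgroup.mem_centralizer_singleton_iff, ← hk, MulAut.conj_symm_apply]
    constructor
    · intro e
      calc h * (k * x * k⁻¹) = k * (k⁻¹ * h * k * x) * k⁻¹ := by group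
        _ = _ := by rw [e]; group
    · intro e
      calc k⁻¹ * h * k * x = k⁻¹ * (h * (k * x * k⁻¹)) * k := by group
        _ = _ := by rw [e]; group
  exact ⟨((((MulEquiv.subgroupMap (MulAut.conj k) _).trans (MulEquiv.subgroupCongr hcen)).trans
    (Subgroup.equivMapOfInjective _ (Hfix L).subtype Subtype.val_injective)).trans
    ((MulEquiv.subgroupCongr hsub).trans (MulEquiv.subgroupMap (MulAut.conj g) _).symm)).trans e⟩

end Cfsg.Agent.Lie.Chev.E6Five
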