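import Cfsg.Agent.Lib.Lie.Chev.E6Five.Centraliser
import Cfsg.Agent.Lib.Recog.GL42
import Mathlib.GroupTheory.NoncommCoprod

/-! The points over two elements of the A₃ through their action on four root vectors, and the shape
`5 × A₈` of the fixed centraliser. -/

set_option autoImplicit false
set_option maxRecDepth 40000

namespace Cfsg.Agent.Lie.Chev.E6Five

open Cfsg.Lie Matrix

local notation "c" => certFullE6

theorem transvection_natMat : ∀ i j : Fin 4, i ≠ j → ∃ s ∈ rootsS,
    natMat s = Matrix.transvection i j 1 := by decide +kernel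

theorem natMat_diag : ∀ s ∈ rootsS, ∀ i : Fin 4, natMat s i i = 1 := by decide +kernel

theorem natMat_cases (s : ℕ) {i j : Fin 4} (h : i ≠ j) :
    natMat s i j = if ((c).T.entry s (orb j)).any (fun q => Nat.beq q.1 (orb i)) then 1 else 0 := by
  rw [natMat, Matrix.of_apply, if_neg h, zero_add]

variable {L : Type*} [Field L] [CharP L 2]

/-- The matrix of an element on the four root vectors. -/
def Rel (g : GL chevE6.Idx L) (M : Matrix (Fin 4) (Fin 4) (ZMod 2)) : Prop :=
  ∀ j : Fin 4, (g : Matrix chevE6.Idx chevE6.Idx L) *ᵥ evec chevE6 L (orb j) =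
    ∑ i, ZMod.castHom (dvd_refl 2) L (M i j) • evec chevE6 L (orb i)

omit [CharP L 2] in
theorem evec_coord (u : ℕ → L) (j : Fin 4) :
    (∑ i : Fin 4, u i • evec chevE6 L (orb i)) (Sum.inr ⟨orb j, orb_lt j⟩) = u j := by
  rw [Finset.sum_apply, Finset.sum_eq_single j]
  · simp [evec]
  · intro i _ hij
    have hne : orb j ≠ orb i := fun e => hij (orb_inj _ _ e).symm
    simp [evec, hne]
  · simp

omit [CharP L 2] in
theorem evec_coord' (u : Fin 4 → L) (j : Fin 4) :
    (∑ i : Fin 4, u i • evec chevE6 L (orb i)) (Sum.inr ⟨orb j, orb_lt j⟩) = u j := by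
  have h := evec_coord (fun n => if h : n < 4 then u ⟨n, h⟩ else 0) j
  simpa [j.isLt] using h

theorem rel_unique {g : GL chevE6.Idx L} {M N : Matrix (Fin 4) (Fin 4) (ZMod 2)} (h : Rel g M)
    (h' : Rel g N) : M = N := by
  refine Matrix.ext fun i j => (ZMod.castHom (dvd_refl 2) L).injective ?_
  have e := congrFun ((h j).symm.trans (h' j)) (Sum.inr ⟨orb i, orb_lt i⟩)
  rwa [evec_coord', evec_coord'] at e

theorem rel_one : Rel (1 : GL chevE6.Idx L) 1 := fun j => by
  rw [Units.val_one, Matrix.one_mulVec, Finset.sum_eq_single j]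
  · simp
  · intro i _ hij
    rw [Matrix.one_apply_ne hij, map_zero, zero_smul]
  · simp

theorem rel_mul {g h : GL chevE6.Idx L} {M N : Matrix (Fin 4) (Fin 4) (ZMod 2)} (hg : Rel g M)
    (hh : Rel h N) : Rel (g * h) (M * N) := fun j => by
  rw [Units.val_mul, ← Matrix.mulVec_mulVec, hh j, Matrix.mulVec_sum]
  simp only [Matrix.mulVec_smul, hg _, Finset.smul_sum, smul_smul]
  rw [Finset.sum_comm]
  refine Finset.sum_congr rfl fun i _ => ?_
  rw [Matrix.mul_apply, map_sum, Finset.sum_smul]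
  refine Finset.sum_congr rfl fun k _ => ?_
  rw [map_mul, mul_comm]

theorem rel_xg {s : ℕ} (hs : s ∈ rootsS) : Rel ((c).xg s (1 : L)) (natMat s) := by
  intro j
  have hs' : s < chevE6.nroots := rootsS_lt s hs
  obtain ⟨⟨h1, h2⟩, hch⟩ := orb_chain s hs j
  rw [(c).xg_val, (c).x_evec hs' (orb_lt j) h1 (by rw [(c).neg_eq hs']; exact h2)]
  rcases hch with he | ⟨k, hkj, hk⟩
  · rw [he, chainVec, add_zero, Finset.sum_eq_single j]
    · rw [natMat_diag s hs, map_one, one_smul]
    · intro i _ hij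
      rw [natMat_cases s hij, he]
      simp
    · simp
  · obtain ⟨m, hm, hm1⟩ : ∃ m : ℤ, (c).T.entry s (orb j) = [(orb k, m)] ∧ (m : L) = 1 := by
      rcases hk with hk | hk
      · exact ⟨1, hk, Int.cast_one⟩
      · exact ⟨-1, hk, by rw [Int.cast_neg, Int.cast_one, CharTwo.neg_eq]⟩
    rw [hm, chainVec, chainVec, add_zero, pow_one, mul_one, hm1, one_smul,
      Finset.sum_eq_add j k hkj.symm]
    · rw [natMat_diag s hs, natMat_cases s hkj, hm]
      simp
    · intro i _ hi
      rw [natMat_cases s hi.1, hm]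
      have : orb k ≠ orb i := fun e => hi.2 (orb_inj _ _ e).symm
      simp [this]
    · simp
    · simp

variable [Fintype L]

theorem exists_rel {g : GL chevE6.Idx L} (hg : g ∈ Lsub L) : ∃ M, Rel g M := by
  induction hg using Subgroup.closure_induction with
  | mem x hx =>
    obtain ⟨s, hs, rfl⟩ := hx
    exact ⟨_, rel_xg hs⟩
  | one => exact ⟨1, rel_one⟩
  | mul x y _ _ hx hy =>
    obtain ⟨M, hM⟩ := hx
    obtain ⟨N, hN⟩ := hy
    exact ⟨M * N, rel_mul hM hN⟩
  | inv x _ hx =>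
    obtain ⟨M, hM⟩ := hx
    classical
    have e : x⁻¹ = x ^ (orderOf x - 1) := by
      rw [inv_eq_iff_mul_eq_one, ← pow_succ', Nat.sub_add_cancel (orderOf_pos x),
        pow_orderOf_eq_one]
    have hpow : ∀ n : ℕ, Rel (x ^ n) (M ^ n) := fun n => by
      induction n with
      | zero => rw [pow_zero, pow_zero]; exact rel_one
      | succ n ih => rw [pow_succ, pow_succ]; exact rel_mul ih hM
    exact ⟨_, e ▸ hpow _⟩

variable (L) in
/-- The action on the four root vectors. -/
noncomputable def natHom : ↥(Lsub L) →* GL (Fin 4) (ZMod 2) :=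
  MonoidHom.toHomUnits
    { toFun := fun g => (exists_rel g.2).choose
      map_one' := rel_unique (exists_rel (one_mem (Lsub L))).choose_spec rel_one
      map_mul' := fun g h => rel_unique (exists_rel (g * h).2).choose_spec
        (rel_mul (exists_rel g.2).choose_spec (exists_rel h.2).choose_spec) }

theorem natHom_surjective : Function.Surjective (natHom L) := by
  intro A
  have h : ∃ g : ↥(Lsub L), Rel (g : GL chevE6.Idx L) (A : Matrix (Fin 4) (Fin 4) (ZMod 2)) := by
    refine Matrix.diagonal_transvection_induction_of_det_ne_zero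
      (fun M => ∃ g : ↥(Lsub L), Rel (g : GL chevE6.Idx L) M) _
      (Matrix.GeneralLinearGroup.det_ne_zero A) (fun D hD => ⟨1, ?_⟩) (fun t => ?_)
      (fun M N _ _ ⟨g, hg⟩ ⟨h, hh⟩ => ⟨g * h, rel_mul hg hh⟩)
    · have hD1 : D = 1 := funext fun i => by
        have hi : D i ≠ 0 := fun h => hD (by
          rw [det_diagonal]; exact Finset.prod_eq_zero (Finset.mem_univ i) h)
        show D i = 1
        generalize D i = x at hi
        revert x; decide
      rw [hD1, show Matrix.diagonal (1 : Fin 4 → ZMod 2) = 1 from Matrix.diagonal_one]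
      exact rel_one
    · obtain ⟨i, j, hij, a⟩ := t
      show ∃ g : ↥(Lsub L), Rel (g : GL chevE6.Idx L) (transvection i j a)
      have ha : a = 0 ∨ a = 1 := by revert a; decide
      rcases ha with rfl | rfl
      · exact ⟨1, by rw [transvection_zero]; exact rel_one⟩
      · obtain ⟨s, hs, e⟩ := transvection_natMat i j hij
        exact ⟨⟨_, Subgroup.subset_closure ⟨s, hs, rfl⟩⟩, e ▸ rel_xg hs⟩
  obtain ⟨g, hg⟩ := h
  exact ⟨g, Units.ext (rel_unique (exists_rel g.2).choose_spec hg)⟩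

theorem card_GL42 : Nat.card (GL (Fin 4) (ZMod 2)) = 20160 := by
  rw [Matrix.card_GL_field]
  simp [Fin.prod_univ_four]

theorem exists_A8 : Nonempty (GL (Fin 4) (ZMod 2) ≃* ↥(alternatingGroup (Fin 8))) := by
  refine ⟨MulEquiv.ofBijective Recog.GL42.homAlt
    (Recog.GL42.homAlt_injective.bijective_of_nat_card_le ?_)⟩
  rw [card_GL42, nat_card_alternatingGroup]
  simp [Nat.factorial]

variable {ζ : Lˣ}

theorem Lsub_le_C1 (hζ : orderOf ζ = 5) : Lsub L ≤ C1 ζ := by
  refine (Subgroup.closure_le _).2 ?_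
  rintro g ⟨s, hs, rfl⟩
  refine (mem_C1 ζ).2 ⟨(c).xg_mem_group (rootsS_lt s hs) _, ?_, by rw [Psi_xg_S hs, one_pow]⟩
  have h : (c).tchar (fun i => ζ ^ z0v.getD i 0) s = 1 := by
    rw [tchar_zv (hζ ▸ pow_orderOf_eq_one ζ), (ex_z0v_iff s (rootsS_lt s hs)).2 hs, pow_zero]
  have e := (c).torus_conj_xg (fun i => ζ ^ z0v.getD i 0) (rootsS_lt s hs) (1 : L)
  rw [h, Units.val_one, mul_one] at e
  exact (mul_inv_eq_iff_eq_mul.1 e).symm

omit [Fintype L] in
theorem zv_mem_C1 (hζ : orderOf ζ = 5) : zv ζ z0v ∈ C1 ζ := by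
  refine (mem_C1 ζ).2 ⟨(c).B_le_group ((c).H_le_B ((c).torus_mem _)), rfl, ?_⟩
  exact Psi_zv (hζ ▸ pow_orderOf_eq_one ζ) (by simp) z0v sigma_zv

omit [Fintype L] in
theorem orderOf_zv (hζ : orderOf ζ = 5) (v : List ℕ) {s : ℕ} (hs : s < 72) (he : ex v s ≠ 0) :
    orderOf (zv ζ v) = 5 := by
  haveI := Fact.mk (show Nat.Prime 5 by norm_num)
  have h5 : ζ ^ 5 = 1 := hζ ▸ pow_orderOf_eq_one ζ
  refine orderOf_eq_prime ?_ ?_
  · rw [zv, ← map_pow]
    refine Eq.trans (congrArg (c).torus (funext fun i => ?_)) (map_one _)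
    show (ζ ^ v.getD i 0) ^ 5 = 1
    rw [← pow_mul, mul_comm, pow_mul, h5, one_pow]
  · intro e
    have e' : zv ζ v = zv ζ [] := by
      rw [e, zv]
      exact ((c).torus (F := L)).map_one.symm.trans (congrArg (c).torus (funext fun i => by simp))
    have h := ex_eq_of_zv hζ e' hs
    rw [show ex [] s = 0 by simp [ex]] at h
    exact he h

theorem pow_notMem (hζ : orderOf ζ = 5) {k : ℕ} (h : zv ζ z0v ^ k ∈ Lsub L) :
    zv ζ z0v ^ k = 1 := by
  by_contra hne
  have ho := orderOf_zv hζ z0v (show 56 < 72 by omega) (by decide +kernel)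
  have hco : k.Coprime (orderOf (zv ζ z0v)) := by
    rw [ho]
    refine ((show Nat.Prime 5 by norm_num).coprime_iff_not_dvd.2 fun h => hne ?_).symm
    rw [← ho] at h
    exact orderOf_dvd_iff_pow_eq_one.1 h
  obtain ⟨m, hm⟩ := exists_pow_eq_self_of_coprime hco
  have hmem : zv ζ z0v ∈ Lsub L := hm ▸ pow_mem h m
  obtain ⟨M, hM⟩ := exists_rel hmem
  have e := congrFun (hM 0) (Sum.inr ⟨orb 0, orb_lt 0⟩)
  rw [evec_coord', zv, Cert.torus_apply, dg_val, charDiag_evec, tchar_zv (hζ ▸ pow_orderOf_eq_one ζ),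
    orb_ex] at e
  simp [evec] at e
  have h01 : M 0 0 = 0 ∨ M 0 0 = 1 := by generalize M 0 0 = x; revert x; decide
  rcases h01 with h0 | h0 <;> simp [h0] at e
  have : ζ ^ 3 = ζ ^ 0 := Units.ext (by simpa using e)
  exact absurd (zpow_inj_five hζ (by norm_num) (by norm_num) this) (by norm_num)

/-- The two factors. -/
noncomputable def factorHom (hζ : orderOf ζ = 5) :
    ↥(Lsub L) × ↥(Subgroup.zpowers (zv ζ z0v)) →* ↥(C1 ζ) :=
  (Subgroup.inclusion (Lsub_le_C1 hζ)).noncommCoprod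
    (Subgroup.inclusion (Subgroup.zpowers_le.2 (zv_mem_C1 hζ))) fun m n => by
      refine Subtype.ext ?_
      obtain ⟨k, hk⟩ := Subgroup.mem_zpowers_iff.1 n.2
      show (m : GL chevE6.Idx L) * n = n * m
      rw [← hk]
      exact (show Commute (m : GL chevE6.Idx L) (zv ζ z0v) from
        ((mem_C1 ζ).1 (Lsub_le_C1 hζ m.2)).2.1).zpow_right k

theorem factorHom_injective (hζ : orderOf ζ = 5) : Function.Injective (factorHom hζ) := by
  rw [injective_iff_map_eq_one]
  rintro ⟨m, n⟩ h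
  have h' : (m : GL chevE6.Idx L) * n = 1 := congrArg Subtype.val h
  obtain ⟨k, hk : zv ζ z0v ^ k = (n : GL chevE6.Idx L)⟩ :=
    mem_powers_iff_mem_zpowers.2 n.2
  have hn : (n : GL chevE6.Idx L) ∈ Lsub L := by
    rw [mul_eq_one_iff_inv_eq.1 h' |>.symm]
    exact inv_mem m.2
  have hn1 : (n : GL chevE6.Idx L) = 1 := by
    rw [← hk] at hn ⊢
    exact pow_notMem hζ hn
  rw [hn1, mul_one] at h'
  exact Prod.ext (Subtype.ext h') (Subtype.ext hn1)

omit [Fintype L] in
theorem card_zpowers_zv (hζ : orderOf ζ = 5) :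
    Nat.card ↥(Subgroup.zpowers (zv ζ z0v)) = 5 := by
  rw [Nat.card_zpowers]
  exact orderOf_zv hζ z0v (show 56 < 72 by omega) (by decide +kernel)

theorem factor_data (hL : Fintype.card L = 16) (hζ : orderOf ζ = 5) :
    Function.Surjective (factorHom hζ) ∧ Nat.card ↥(C1 ζ) ≤ 5 * 20160 := by
  classical
  let ofB : (S : Finset (Fin 72)) → (↥S → Bool) → ℕ → L := fun S b r =>
    if h : r < 72 then (if h' : (⟨r, h⟩ : Fin 72) ∈ S then (if b ⟨_, h'⟩ then 1 else 0) else 0)
      else 0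
  let toB : (S : Finset (Fin 72)) → (ℕ → L) → ↥S → Bool := fun S t r => decide (t r.1.val = 1)
  let val : (↥posS → Bool) × Fin 5 × (Σ i : Fin 24, (↥(invS i) → Bool)) → GL chevE6.Idx L :=
    fun x => (c).oprod (c).T.h (ofB posS x.1) * zv ζ z0v ^ x.2.1.val *
      (c).nw L (wordE x.2.2.1) * (c).oprod (c).T.h (ofB _ x.2.2.2)
  have hcongr : ∀ {t t' : ℕ → L}, (∀ r, 36 ≤ r → r < 72 → t r = t' r) →
      (c).oprod (c).T.h t = (c).oprod (c).T.h t' := by
    intro t t' h
    rw [Cert.oprod, Cert.oprod]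
    refine congrArg List.prod (List.map_congr_left fun r hr => ?_)
    rw [List.mem_range'_1] at hr
    have h36 : (c).T.h = 36 := rfl
    have h72 : chevE6.nroots = 72 := rfl
    rw [h r (by omega) (by omega)]
  have key : ∀ g ∈ C1 ζ, ∃ x, val x = g ∧ ∃ m : ↥(Lsub L) × ↥(Subgroup.zpowers (zv ζ z0v)),
      (factorHom hζ m : GL chevE6.Idx L) = g := by
    intro g hg
    obtain ⟨t, u, k, i, ht, ht01, hu, hu', hu01, rfl⟩ := C1_factor hL hζ hg
    have hz5 : zv ζ z0v ^ k = zv ζ z0v ^ (k % 5) := by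
      have ho := orderOf_zv hζ z0v (show 56 < 72 by omega) (by decide +kernel)
      conv_lhs => rw [← pow_mod_orderOf, ho]
    have hb : ∀ (S : Finset (Fin 72)) (t : ℕ → L),
        (∀ r (h : r < 72), 36 ≤ r → (⟨r, h⟩ : Fin 72) ∉ S → t r = 0) →
        (∀ r, 36 ≤ r → r < 72 → t r = 0 ∨ t r = 1) →
        (c).oprod (c).T.h (ofB S (toB S t)) = (c).oprod (c).T.h t := by
      intro S t h0 h01
      refine hcongr fun r hr hr' => ?_
      show dite _ _ _ = _
      rw [dif_pos hr']
      split_ifs with h1 h2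
      · exact (of_decide_eq_true h2).symm
      · rcases h01 r hr hr' with e | e
        · exact e.symm
        · exact absurd (decide_eq_true e) h2
      · exact (h0 r hr' hr h1).symm
    refine ⟨(toB posS t, ⟨k % 5, Nat.mod_lt _ (by norm_num)⟩, ⟨i, toB _ u⟩), ?_, ?_⟩
    · show _ * zv ζ z0v ^ (k % 5) * _ * _ = _
      rw [← hz5, hb posS t (fun r h h36 hn => ht r fun hS => hn ?_) ht01,
        hb (invS i) u (fun r h h36 hn => ?_) hu01]
      · by_contra h0
        refine hn ?_
        simp only [invS, Finset.mem_filter, Finset.mem_univ, true_and, Bool.and_eq_true,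
          Nat.ble_eq, Nat.blt_eq, List.contains_iff_mem]
        exact ⟨⟨h36, by by_contra h'; exact h0 (hu r h')⟩,
          (by by_contra h'; exact h0 (hu' r fun hh => h' hh.2))⟩
      · simp only [posS, Finset.mem_filter, Finset.mem_univ, true_and, Bool.and_eq_true,
          Nat.ble_eq, List.contains_iff_mem]
        exact ⟨h36, hS⟩
    · have h1 : (c).oprod (c).T.h t ∈ Lsub L := oprod_mem_Lsub ht ht01
      have h2 : (c).oprod (c).T.h u ∈ Lsub L := oprod_mem_Lsub hu hu01
      refine ⟨(⟨_, mul_mem (mul_mem h1 (nw_wordE_mem i)) h2⟩,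
        ⟨_, Subgroup.npow_mem_zpowers _ k⟩), ?_⟩
      show (c).oprod (c).T.h t * (c).nw L (wordE i) * (c).oprod (c).T.h u * zv ζ z0v ^ k = _
      have hc : ∀ y ∈ Lsub L, Commute y (zv ζ z0v ^ k) := fun y hy =>
        (show Commute y (zv ζ z0v) from ((mem_C1 ζ).1 (Lsub_le_C1 hζ hy)).2.1).pow_right k
      rw [mul_assoc _ ((c).oprod (c).T.h u), (hc _ h2).eq, ← mul_assoc,
        mul_assoc _ ((c).nw L (wordE i)), (hc _ (nw_wordE_mem i)).eq, ← mul_assoc]
  refine ⟨fun g => ?_, ?_⟩
  · obtain ⟨-, -, m, hm⟩ := key g g.2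
    exact ⟨m, Subtype.ext hm⟩
  · have hsurj : ∀ g : ↥(C1 ζ), ∃ x, val x = g := fun g => by
      obtain ⟨x, hx, -⟩ := key g g.2
      exact ⟨x, hx⟩
    choose pick hpick using hsurj
    calc Nat.card ↥(C1 ζ) ≤ Nat.card ((↥posS → Bool) × Fin 5 × (Σ i : Fin 24, (↥(invS i) → Bool))) :=
          Nat.card_le_card_of_injective pick fun a b e =>
            Subtype.ext (by rw [← hpick a, ← hpick b, e])
      _ = 5 * 20160 := by
          rw [Nat.card_eq_fintype_card, Fintype.card_prod, Fintype.card_prod, Fintype.card_sigma,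
            Fintype.card_fun, Fintype.card_bool, Fintype.card_coe, Fintype.card_fin, ← mul_assoc]
          rw [← card_tuples]
          simp only [Fintype.card_fun, Fintype.card_bool, Fintype.card_coe]

/-- The fixed centraliser is `5 × A₈`. -/
theorem C1_shape (hL : Fintype.card L = 16) (hζ : orderOf ζ = 5) :
    Nonempty (↥(C1 ζ) ≃* Multiplicative (ZMod 5) × ↥(alternatingGroup (Fin 8))) := by
  obtain ⟨hsurj, hle⟩ := factor_data hL hζ
  have e := MulEquiv.ofBijective _ ⟨factorHom_injective hζ, hsurj⟩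
  have hc : Nat.card ↥(Lsub L) ≤ 20160 := by
    have h := Nat.card_congr e.toEquiv
    rw [Nat.card_prod, card_zpowers_zv hζ] at h
    omega
  have hbij : Function.Bijective (natHom L) :=
    natHom_surjective.bijective_of_nat_card_le (by rw [card_GL42]; exact hc)
  obtain ⟨eA⟩ := exists_A8
  haveI := Fact.mk (show Nat.Prime 5 by norm_num)
  have eZ : ↥(Subgroup.zpowers (zv ζ z0v)) ≃* Multiplicative (ZMod 5) :=
    mulEquivOfPrimeCardEq (card_zpowers_zv hζ) (by simp)
  exact ⟨e.symm.trans ((((MulEquiv.ofBijective _ hbij).trans eA).prodCongr eZ).trans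
    MulEquiv.prodComm)⟩

end Cfsg.Agent.Lie.Chev.E6Five
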