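import Cfsg.Agent.Lib.Lie.Chev.E6Five.Descent

/-! Elements of order five in the split torus of E₆(16), by exponent vectors modulo five. -/

set_option autoImplicit false
set_option maxRecDepth 8000

namespace Cfsg.Agent.Lie.Chev.E6Five

open Cfsg.Lie Matrix

local notation "c" => certFullE6

/-- The exponent of a root on an exponent vector. -/
def ex (v : List ℕ) (s : ℕ) : ℕ :=
  ((((List.range 6).map fun i => (v.getD i 0 : ℤ) * certFullE6.T.cartan i s).sum) % 5).toNat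

/-- The word of the reflection in the root number 69. -/
def word69 : List ℕ := [2, 0, 4, 3, 1, 2, 3, 4, 5, 4, 3, 2, 1, 3, 4, 0, 2]

/-- The word of the reflection in the root number 70. -/
def word70 : List ℕ := [3, 2, 0, 4, 3, 1, 2, 3, 4, 5, 4, 3, 2, 1, 3, 4, 0, 2, 3]

variable {L : Type*} [Field L] (ζ : Lˣ)

/-- The torus element of an exponent vector. -/
noncomputable def zv (v : List ℕ) : GL chevE6.Idx L := (c).torus fun i => ζ ^ v.getD i 0

variable {ζ}

theorem tchar_zv (hζ : ζ ^ 5 = 1) (v : List ℕ) (s : ℕ) :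
    (c).tchar (fun i => ζ ^ v.getD i 0) s = ζ ^ ex v s := by
  rw [Cert.tchar]
  have hsum : ∀ n, ∏ i ∈ Finset.range n, (ζ ^ v.getD i 0) ^ (c).T.cartan i s =
      ζ ^ (((List.range n).map fun i => (v.getD i 0 : ℤ) * certFullE6.T.cartan i s).sum) := by
    intro n
    induction n with
    | zero => simp
    | succ n ih =>
      rw [Finset.prod_range_succ, ih, List.range_succ, List.map_append, List.sum_append,
        _root_.zpow_add, List.map_singleton, List.sum_singleton, _root_.zpow_mul, zpow_natCast]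
  rw [show chevE6.rank = 6 from rfl, hsum 6, ex]
  generalize (((List.range 6).map fun i => (v.getD i 0 : ℤ) * certFullE6.T.cartan i s).sum) = n
  have h5 : ζ ^ (5 : ℤ) = 1 := by rw [zpow_ofNat]; exact hζ
  conv_lhs => rw [← Int.mul_ediv_add_emod n 5, _root_.zpow_add, _root_.zpow_mul, h5,
    _root_.one_zpow, one_mul]
  rw [← zpow_natCast, Int.toNat_of_nonneg (Int.emod_nonneg _ (by norm_num))]

theorem zpow_inj_five (hζ : orderOf ζ = 5) {a b : ℕ} (ha : a < 5) (hb : b < 5) (h : ζ ^ a = ζ ^ b) :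
    a = b := pow_injOn_Iio_orderOf (by rw [Set.mem_Iio, hζ]; exact ha)
      (by rw [Set.mem_Iio, hζ]; exact hb) h

variable [CharP L 2]

theorem Psi_zv (hζ : ζ ^ 5 = 1) {W : List ℕ} (hW : ∀ p ∈ W, p < 6) (v : List ℕ)
    (h : ∀ s < 72, ex v ((c).T.wlT W (graphE6.ρ s)) = 2 * ex v s % 5) :
    Psi W (zv ζ v) = zv ζ v := by
  refine Psi_torus_fixed hW fun s hs => ?_
  rw [tchar_zv hζ, tchar_zv hζ, ← (c).wlT_eq, h s hs, ← pow_mul, mul_comm (ex v s) 2]
  exact (pow_eq_pow_mod _ hζ).symm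

theorem nw_zv (hζ : ζ ^ 5 = 1) {V : List ℕ} (hV : ∀ p ∈ V, p < 6) (v v' : List ℕ)
    (h : ∀ s < 72, ex v' ((c).T.wlT V s) = ex v s) :
    (c).nw L V * zv ζ v * ((c).nw L V)⁻¹ = zv ζ v' := by
  refine (c).nw_conj_torus hV fun s hs => ?_
  rw [tchar_zv hζ, tchar_zv hζ, ← (c).wlT_eq, h s hs]

omit [CharP L 2] in
theorem zv_eq_of_ex (hζ : ζ ^ 5 = 1) {v v' : List ℕ} (h : ∀ s < 72, ex v s = ex v' s) :
    zv ζ v = zv ζ v' := by
  rw [zv, zv, Cert.torus_apply, Cert.torus_apply]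
  refine dg_ext chevE6 L fun s hs => ?_
  rw [tchar_zv hζ, tchar_zv hζ, h s hs]

omit [CharP L 2] in
theorem ex_eq_of_zv (hζ : orderOf ζ = 5) {v v' : List ℕ} (h : zv ζ v = zv ζ v') {s : ℕ}
    (hs : s < 72) : ex v s = ex v' s := by
  have h5 : ζ ^ 5 = 1 := hζ ▸ pow_orderOf_eq_one ζ
  rw [zv, zv, Cert.torus_apply, Cert.torus_apply, dg_eq_iff] at h
  have := h s hs
  rw [tchar_zv h5, tchar_zv h5] at this
  refine zpow_inj_five hζ ?_ ?_ this <;>
  · rw [ex]
    have h1 := Int.emod_lt_of_pos (a := (((List.range 6).map fun i =>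
      ((v.getD i 0 : ℕ) : ℤ) * certFullE6.T.cartan i s).sum)) (show (0 : ℤ) < 5 by norm_num)
    have h2 := Int.emod_lt_of_pos (a := (((List.range 6).map fun i =>
      ((v'.getD i 0 : ℕ) : ℤ) * certFullE6.T.cartan i s).sum)) (show (0 : ℤ) < 5 by norm_num)
    omega

end Cfsg.Agent.Lie.Chev.E6Five
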